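import Groth.Agent.RTrivLib.Link
import Groth.Agent.GenusZeroLib.PSmooth
import Mathlib.Algebra.MvPolynomial.Equiv

/-!
# The two charts of the projective line
-/

set_option autoImplicit false
set_option linter.style.haveILetI false
set_option backward.isDefEq.respectTransparency false
set_option backward.isDefEq.respectTransparency.types false
universe u

open CategoryTheory CategoryTheory.Limits AlgebraicGeometry ChowLib
open HomogeneousLocalization GradedCechLib

noncomputable section

namespace RFormLib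

theorem exists_iso (R : Type u) [CommRing R] :
    ∃ e : CohB1.ProjSpace 1 R ≅ CohB1.ProjSpaceOver 1 (Spec (CommRingCat.of R)),
      e.hom ≫ CohB1.ProjSpaceOver.toBase 1 _ = CohB1.ProjSpace.toSpec 1 R := by
  letI : Algebra RTrivLib.Z.{u} R := ((Int.castRingHom R).comp ULift.ringEquiv.toRingHom).toAlgebra
  letI := MvPolynomial.algebraMvPolynomial (R := RTrivLib.Z.{u}) (S := R) (σ := Fin (1 + 1))
  let φ : CohB1.polyGrading 1 RTrivLib.Z.{u} →+*ᵍ CohB1.polyGrading 1 R :=
    { MvPolynomial.map (σ := Fin (1 + 1)) (algebraMap RTrivLib.Z.{u} R) with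
      map_mem := fun {i x} hx => MvPolynomial.IsHomogeneous.map hx _ }
  have hirr : HomogeneousIdeal.irrelevant (CohB1.polyGrading 1 R) ≤
      (HomogeneousIdeal.irrelevant (CohB1.polyGrading 1 RTrivLib.Z.{u})).map φ := by
    intro x hx
    have hx0 : MvPolynomial.homogeneousComponent 0 x = 0 := by
      have := (HomogeneousIdeal.mem_irrelevant_iff _ x).mp hx
      exact (MvPolynomial.decomposition.decompose'_apply x 0).symm.trans this
    have hxs : x ∈ Ideal.span ((MvPolynomial.X (R := R)) '' (Set.univ : Set (Fin (1 + 1)))) := by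
      rw [MvPolynomial.mem_ideal_span_X_image]
      intro m hm
      by_contra! hcon
      have hm0 : m = 0 := Finsupp.ext fun i => hcon i trivial
      rw [MvPolynomial.homogeneousComponent_zero, MvPolynomial.C_eq_zero] at hx0
      exact MvPolynomial.mem_support_iff.mp hm (hm0 ▸ hx0)
    refine (Ideal.span_le.mpr ?_) hxs
    rintro - ⟨i, -, rfl⟩
    have hX : (MvPolynomial.X i : MvPolynomial (Fin (1 + 1)) RTrivLib.Z.{u}) ∈
        (HomogeneousIdeal.irrelevant (CohB1.polyGrading 1 RTrivLib.Z.{u})).toIdeal :=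
      HomogeneousIdeal.mem_irrelevant_of_mem _ one_pos
        ((MvPolynomial.mem_homogeneousSubmodule _ _).mpr (MvPolynomial.isHomogeneous_X _ i))
    exact (MvPolynomial.map_X (algebraMap RTrivLib.Z.{u} R) i) ▸ Ideal.mem_map_of_mem φ hX
  have h := Groth.Agent.S3554.result (R := R) (R' := RTrivLib.Z.{u}) (CohB1.polyGrading 1 RTrivLib.Z.{u})
    (CohB1.polyGrading 1 R) φ (fun b => rfl) hirr
  let h' : IsPullback (Proj.map φ hirr) (CohB1.ProjSpace.toSpec 1 R) (CohB1.ProjSpace.toSpec 1 RTrivLib.Z.{u})
      (specULiftZIsTerminal.from (Spec (CommRingCat.of R))) := by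
    rw [specULiftZIsTerminal.hom_ext (specULiftZIsTerminal.from (Spec (CommRingCat.of R)))
      (Spec.map (CommRingCat.ofHom (algebraMap RTrivLib.Z.{u} R)))]
    exact h
  exact ⟨h'.isoPullback, h'.isoPullback_hom_snd⟩

variable (K : Type u) [Field K]

/-- The chart ring as polynomials in one variable. -/
def chartEquiv (j : Fin 2) :
    Polynomial K ≃+* Away (CohB1.polyGrading 1 K) (MvPolynomial.X j : MvPolynomial (Fin (1 + 1)) K) :=
  (MvPolynomial.uniqueAlgEquiv K (Fin 1)).symm.toRingEquiv.trans
    (RingEquiv.ofBijective _ (GenusZeroLib.chartPoly_bijective 1 K j))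

theorem chartEquiv_C (j : Fin 2) (a : K) : chartEquiv K j (Polynomial.C a) = cst 1 K _ a := by
  show GenusZeroLib.chartPoly 1 K j ((MvPolynomial.uniqueAlgEquiv K (Fin 1)).symm (Polynomial.C a)) = _
  rw [show (MvPolynomial.uniqueAlgEquiv K (Fin 1)).symm (Polynomial.C a) = MvPolynomial.C a by simp [MvPolynomial.uniqueAlgEquiv]]
  simp [GenusZeroLib.chartPoly]

theorem chartEquiv_X (j : Fin 2) :
    chartEquiv K j Polynomial.X = deh₀ 1 K j (MvPolynomial.X (j.succAbove 0)) := by
  show GenusZeroLib.chartPoly 1 K j ((MvPolynomial.uniqueAlgEquiv K (Fin 1)).symm Polynomial.X) = _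
  rw [show (MvPolynomial.uniqueAlgEquiv K (Fin 1)).symm Polynomial.X = MvPolynomial.X 0 by simp [MvPolynomial.uniqueAlgEquiv]]
  simp [GenusZeroLib.chartPoly]

/-- The chart into the standard projective line. -/
def chart₀ (j : Fin 2) : Spec (CommRingCat.of (Polynomial K)) ⟶ CohB1.ProjSpace 1 K :=
  Spec.map (CommRingCat.ofHom (chartEquiv K j).symm.toRingHom) ≫
    Proj.awayι (CohB1.polyGrading 1 K) (MvPolynomial.X j) (GradedCechLib.X_mem 1 K j) one_pos

theorem chart₀_toSpec (j : Fin 2) :
    chart₀ K j ≫ CohB1.ProjSpace.toSpec 1 K = Spec.map (CommRingCat.ofHom Polynomial.C) := by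
  show (_ ≫ _) ≫ Proj.toSpecZero _ ≫ _ = _
  rw [Category.assoc, Proj.awayι_toSpecZero_assoc, ← Spec.map_comp, ← Spec.map_comp]
  congr 1
  refine CommRingCat.hom_ext (RingHom.ext fun a => ?_)
  show (chartEquiv K j).symm (cst 1 K _ a) = Polynomial.C a
  rw [← chartEquiv_C, RingEquiv.symm_apply_apply]

section Generic

variable {F : Type u} [Field F] (η : MvPolynomial (Fin (1 + 1)) K →+* F)

/-- Evaluation of a chart ring at a point. -/
def psi {f : MvPolynomial (Fin (1 + 1)) K} (hu : IsUnit (η f)) :
    Away (CohB1.polyGrading 1 K) f →+* F :=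
  (IsLocalization.Away.lift (S := Localization.Away f) f hu).comp
    (algebraMap (Away (CohB1.polyGrading 1 K) f) (Localization.Away f))

theorem psi_awayMap {f g x : MvPolynomial (Fin (1 + 1)) K} (hg : g ∈ CohB1.polyGrading 1 K 1) (hx : x = f * g)
    (hu : IsUnit (η f)) (hu' : IsUnit (η x)) :
    (psi K η hu').comp (awayMap (CohB1.polyGrading 1 K) hg hx) = psi K η hu := by
  refine RingHom.ext fun a => ?_
  simp only [psi, RingHom.comp_apply, HomogeneousLocalization.algebraMap_apply, val_awayMap]
  refine RingHom.congr_fun (f := (IsLocalization.Away.lift (S := Localization.Away x) x hu').comp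
    (Localization.awayLift (algebraMap (MvPolynomial (Fin (1 + 1)) K) (Localization.Away x)) f _)) ?_ a.val
  refine IsLocalization.ringHom_ext (Submonoid.powers f) (RingHom.ext fun y => ?_)
  simp [Localization.awayLift]

theorem psi_chart (j : Fin 2) (hu : IsUnit (η (MvPolynomial.X j))) :
    (∀ a, psi K η hu (chartEquiv K j (Polynomial.C a)) = η (MvPolynomial.C a)) ∧
      psi K η hu (chartEquiv K j Polynomial.X) * η (MvPolynomial.X j) = η (MvPolynomial.X (j.succAbove 0)) := by
  refine ⟨fun a => ?_, ?_⟩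
  · simp [chartEquiv_C, psi, HomogeneousLocalization.algebraMap_apply, val_cst]
  · simp only [chartEquiv_X, psi, RingHom.comp_apply, HomogeneousLocalization.algebraMap_apply, val_deh₀_X]
    set x : MvPolynomial (Fin (1 + 1)) K := MvPolynomial.X j
    set y : MvPolynomial (Fin (1 + 1)) K := MvPolynomial.X (j.succAbove 0)
    have h1 : Localization.mk y (xpw 1 K j 1) * algebraMap _ (Localization.Away x) x = algebraMap _ _ y := by
      rw [Localization.mk_eq_mk']
      refine Eq.trans ?_ (IsLocalization.mk'_spec _ y (xpw 1 K j 1))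
      exact congrArg (fun t => _ * algebraMap _ _ t) (pow_one x).symm
    have h2 := congrArg (IsLocalization.Away.lift (S := Localization.Away x) x hu) h1
    rw [map_mul, IsLocalization.Away.lift_eq, IsLocalization.Away.lift_eq] at h2
    exact h2

end Generic

/-- The variable in the rational function field. -/
def tF : FractionRing (Polynomial K) := algebraMap (Polynomial K) _ Polynomial.X

theorem tF_ne_zero : tF K ≠ 0 :=
  (map_ne_zero_iff _ (IsFractionRing.injective (Polynomial K) _)).mpr Polynomial.X_ne_zero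

/-- The coordinate of a chart as a rational function. -/
def uF (j : Fin 2) : FractionRing (Polynomial K) := if j = 0 then tF K else (tF K)⁻¹

/-- The rational function field as a point of each chart. -/
def jmap (j : Fin 2) : Polynomial K →+* FractionRing (Polynomial K) :=
  Polynomial.eval₂RingHom ((algebraMap (Polynomial K) _).comp Polynomial.C) (uF K j)

theorem jmap_zero : jmap K 0 = algebraMap (Polynomial K) _ := by
  refine Polynomial.ringHom_ext (fun a => ?_) ?_ <;> simp [jmap, uF, tF]

theorem jmap_injective (j : Fin 2) : Function.Injective (jmap K j) := by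
  refine (injective_iff_map_eq_zero _).mpr fun p hp => ?_
  fin_cases j
  · exact (map_eq_zero_iff _ (IsFractionRing.injective (Polynomial K) _)).mp (by rw [← jmap_zero]; exact hp)
  · by_contra hp0
    letI : Algebra K (FractionRing (Polynomial K)) := ((algebraMap (Polynomial K) _).comp Polynomial.C).toAlgebra
    have halg : IsAlgebraic K (tF K)⁻¹ := ⟨p, hp0, by
      rw [Polynomial.aeval_def]; exact hp⟩
    rw [IsAlgebraic.inv_iff] at halg
    obtain ⟨q, hq0, hq⟩ := halg
    refine hq0 ((map_eq_zero_iff _ (IsFractionRing.injective (Polynomial K) (FractionRing (Polynomial K)))).mp ?_)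
    rw [← jmap_zero]
    rw [Polynomial.aeval_def] at hq
    simp only [jmap, uF, Polynomial.coe_eval₂RingHom]
    exact hq

/-- The evaluation `X₀ ↦ 1, X₁ ↦ t`. -/
def etaF : MvPolynomial (Fin (1 + 1)) K →+* FractionRing (Polynomial K) :=
  MvPolynomial.eval₂Hom ((algebraMap (Polynomial K) _).comp Polynomial.C) ![1, tF K]

theorem etaF_isUnit (j : Fin 2) : IsUnit (etaF K (MvPolynomial.X j)) := by
  fin_cases j <;> simp [etaF, tF_ne_zero]

theorem psi_eq (j : Fin 2) :
    (psi K (etaF K) (etaF_isUnit K j)).comp (chartEquiv K j).toRingHom = jmap K j := by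
  obtain ⟨hC, hX⟩ := psi_chart K (etaF K) j (etaF_isUnit K j)
  refine Polynomial.ringHom_ext (fun a => ?_) ?_
  · exact (hC a).trans (by simp [jmap, etaF])
  · fin_cases j
    · simpa [jmap, uF, etaF] using hX
    · have := (eq_mul_inv_iff_mul_eq₀ (etaF_isUnit K 1).ne_zero).mpr hX
      simpa [jmap, uF, etaF] using this

theorem generic_eq (j : Fin 2) :
    Spec.map (CommRingCat.ofHom (jmap K j)) ≫ chart₀ K j =
      Spec.map (CommRingCat.ofHom (psi K (etaF K)
        (f := MvPolynomial.X 0 * MvPolynomial.X 1) (by rw [map_mul]; exact (etaF_isUnit K 0).mul (etaF_isUnit K 1)))) ≫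
      Proj.awayι (CohB1.polyGrading 1 K) (MvPolynomial.X 0 * MvPolynomial.X 1)
        (SetLike.mul_mem_graded (GradedCechLib.X_mem 1 K 0) (GradedCechLib.X_mem 1 K 1)) (by norm_num) := by
  have hstep : Spec.map (CommRingCat.ofHom (jmap K j)) ≫ chart₀ K j =
      Spec.map (CommRingCat.ofHom (psi K (etaF K) (etaF_isUnit K j))) ≫
        Proj.awayι (CohB1.polyGrading 1 K) (MvPolynomial.X j) (GradedCechLib.X_mem 1 K j) one_pos := by
    rw [chart₀, ← Category.assoc, ← Spec.map_comp]
    congr 2
    refine CommRingCat.hom_ext (RingHom.ext fun a => ?_)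
    show jmap K j ((chartEquiv K j).symm a) = _
    rw [← psi_eq]
    simp
  rw [hstep]
  fin_cases j
  · rw [← Proj.SpecMap_awayMap_awayι (CohB1.polyGrading 1 K) (GradedCechLib.X_mem 1 K 0) one_pos
      (GradedCechLib.X_mem 1 K 1) rfl, ← Category.assoc, ← Spec.map_comp]
    congr 2
    exact CommRingCat.hom_ext (psi_awayMap K (etaF K) (GradedCechLib.X_mem 1 K 1) rfl _ _).symm
  · rw [← Proj.SpecMap_awayMap_awayι (CohB1.polyGrading 1 K) (GradedCechLib.X_mem 1 K 1) one_pos
      (GradedCechLib.X_mem 1 K 0) (mul_comm _ _), ← Category.assoc, ← Spec.map_comp]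
    congr 2
    exact CommRingCat.hom_ext (psi_awayMap K (etaF K) (GradedCechLib.X_mem 1 K 0) (mul_comm _ _) _ _).symm

/-- A chart of the projective line. -/
def chart (j : Fin 2) : Spec (CommRingCat.of (Polynomial K)) ⟶ REq.P1K K :=
  chart₀ K j ≫ (exists_iso K).choose.hom

theorem chart_toSpec (j : Fin 2) :
    chart K j ≫ REq.P1K.toSpec K = Spec.map (CommRingCat.ofHom Polynomial.C) := by
  rw [chart, Category.assoc, (exists_iso K).choose_spec, chart₀_toSpec]

/-- The two charts agree at the generic point. -/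
theorem chart_generic :
    Spec.map (CommRingCat.ofHom (jmap K 0)) ≫ chart K 0 = Spec.map (CommRingCat.ofHom (jmap K 1)) ≫ chart K 1 := by
  rw [chart, chart, ← Category.assoc, ← Category.assoc, generic_eq, generic_eq]

/-- Every rational point lies in a chart. -/
theorem exists_chart_point (a : Spec (CommRingCat.of K) ⟶ REq.P1K K) (ha : a ≫ REq.P1K.toSpec K = 𝟙 _) :
    ∃ (j : Fin 2) (α : K), a = Spec.map (CommRingCat.ofHom (Polynomial.evalRingHom α)) ≫ chart K j := by
  let e := (exists_iso K).choose
  let a₀ := a ≫ e.inv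
  obtain ⟨j, hj⟩ : ∃ j, a₀ (IsLocalRing.closedPoint K) ∈ QCohLib.stdOpen 1 K j :=
    TopologicalSpace.Opens.mem_iSup.mp (by rw [QCohLib.iSup_stdOpen]; trivial)
  let ι₀ := Proj.awayι (CohB1.polyGrading 1 K) (MvPolynomial.X j) (GradedCechLib.X_mem 1 K j) one_pos
  have hr : Set.range a₀ ⊆ Set.range ι₀ := by
    rintro _ ⟨z, rfl⟩
    haveI : Subsingleton ↥(Spec (CommRingCat.of K)) := inferInstanceAs (Subsingleton (PrimeSpectrum K))
    rw [Subsingleton.elim z (IsLocalRing.closedPoint K)]
    show a₀ (IsLocalRing.closedPoint K) ∈ ι₀.opensRange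
    rw [Proj.opensRange_awayι]
    exact hj
  obtain ⟨φ, hφ⟩ := Spec.map_surjective (IsOpenImmersion.lift ι₀ a₀ hr ≫
    Spec.map (CommRingCat.ofHom (chartEquiv K j).toRingHom))
  have hfac : Spec.map φ ≫ chart₀ K j = a₀ := by
    rw [hφ, chart₀, Category.assoc, ← Category.assoc (Spec.map _) (Spec.map _), ← Spec.map_comp]
    have : CommRingCat.ofHom (chartEquiv K j).symm.toRingHom ≫ CommRingCat.ofHom (chartEquiv K j).toRingHom = 𝟙 _ :=
      CommRingCat.hom_ext (RingHom.ext fun a => (chartEquiv K j).apply_symm_apply a)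
    rw [this, Spec.map_id, Category.id_comp, IsOpenImmersion.lift_fac]
  refine ⟨j, φ.hom Polynomial.X, ?_⟩
  have hC : ∀ c, φ.hom (Polynomial.C c) = c := fun c => by
    have h1 : a₀ ≫ CohB1.ProjSpace.toSpec 1 K = 𝟙 _ := by
      rw [← ha, ← (exists_iso K).choose_spec, Category.assoc, Iso.inv_hom_id_assoc]
    rw [← hfac, Category.assoc, chart₀_toSpec, ← Spec.map_comp, ← Spec.map_id] at h1
    exact ConcreteCategory.congr_hom (Spec.map_injective h1) c
  have hev : CommRingCat.ofHom (Polynomial.evalRingHom (φ.hom Polynomial.X)) = φ := by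
    refine CommRingCat.hom_ext (Polynomial.ringHom_ext (fun c => ?_) ?_) <;> simp [hC]
  rw [hev, chart, ← Category.assoc, hfac, Category.assoc, Iso.inv_hom_id, Category.comp_id]

end RFormLib

end
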