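import Groth.Agent.RFormLib.Val
import Groth.Agent.S2111
import Groth.Agent.ReducedDivLib.Main
import Groth.Agent.NormExtLib.Fibre
import Groth.Agent.NormalLib.Regular
import Groth.Agent.RTrivLib.Curve
import Mathlib.AlgebraicGeometry.ValuativeCriterion
import Mathlib.AlgebraicGeometry.Morphisms.FiniteType
import Mathlib.RingTheory.Localization.LocalizationLocalization

/-!
# Birational transport of tensor forms
-/

set_option autoImplicit false
set_option linter.style.haveILetI false
set_option linter.unusedSectionVars false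
set_option backward.isDefEq.respectTransparency false
set_option backward.isDefEq.respectTransparency.types false
set_option maxHeartbeats 1000000
universe u

open CategoryTheory CategoryTheory.Limits AlgebraicGeometry Opposite TopologicalSpace
open AmpleLib (res res_res shT)
open ProjFormLib (IsFrame)

noncomputable section

namespace RFormLib

variable {k : Type u} [Field k] {X : Scheme.{u}} (f : X ⟶ Spec (CommRingCat.of k)) [IsProper f] [Smooth f]
  [IsIntegral X] [Algebra k X.functionField]
  {Y : Scheme.{u}} (g : Y ⟶ Spec (CommRingCat.of k)) [IsProper g] [Smooth g] [IsIntegral Y]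
  [Algebra k Y.functionField]
  {i : ℕ} {L : X.Modules} (hL : ExtPow.IsExtPow i (Omega.sheaf f) L)
  {M : Y.Modules} (hM : ExtPow.IsExtPow i (Omega.sheaf g) M)

section Start

variable {V : X.Opens} {W : Y.Opens} {K : Type u} [Field K] [Algebra k K] (φ : Γ(X, V) →+* K) (φ' : Γ(Y, W) →+* K)
  (θ : Γ(X, V) → Γ(Y, W)) (hθ : ∀ a, φ' (θ a) = φ a)

include hθ in
theorem exists_ell_transport (hV : IsAffineOpen V) (hW : IsAffineOpen W)
    (hφ : ∀ c, φ (sig f V c) = algebraMap k K c) (hφ' : ∀ c, φ' (sig g W c) = algebraMap k K c)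
    (w : Γ(Omega.sheaf f, V)) :
    ∃ w' : Γ(Omega.sheaf g, W), ∀ D, ell f φ hV hφ D w = ell g φ' hW hφ' D w' := by
  have hw : w ∈ Submodule.span Γ(X, V) (Set.range (OmegaSh.dSect f V)) := by
    rw [OmegaAffLib.span_dSect (f := f) ⟨hV, ⊤, isAffineOpen_top _, le_top⟩]; trivial
  induction hw using Submodule.span_induction with
  | mem y hy =>
    obtain ⟨b, rfl⟩ := hy
    exact ⟨OmegaSh.dSect g W (θ b), fun D => by rw [ell_d, ell_d, hθ]⟩
  | zero => exact ⟨0, fun D => by simp only [map_zero]⟩
  | add y z _ _ hy hz =>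
    obtain ⟨y', hy'⟩ := hy
    obtain ⟨z', hz'⟩ := hz
    exact ⟨y' + z', fun D => by simp only [map_add, hy' D, hz' D]⟩
  | smul a y _ hy =>
    obtain ⟨y', hy'⟩ := hy
    exact ⟨θ a • y', fun D => by rw [LinearMap.map_smulₛₗ, LinearMap.map_smulₛₗ, hy' D, hθ]⟩

include hθ in
theorem exists_lam_transport (hV : IsAffineOpen V) (hW : IsAffineOpen W)
    (hφ : ∀ c, φ (sig f V c) = algebraMap k K c) (hφ' : ∀ c, φ' (sig g W c) = algebraMap k K c)
    (y : Γ(L, V)) :
    ∃ y' : Γ(M, W), ∀ D, lam f hL φ hV hφ D y = lam g hM φ' hW hφ' D y' := by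
  obtain ⟨z, rfl⟩ := (hL.choose ⟨V, hV⟩).symm.surjective y
  have hz : z ∈ Submodule.span Γ(X, V) (Set.range (exteriorPower.ιMulti Γ(X, V) i
      (M := (Omega.sheaf f).val.obj (op V)))) := by rw [exteriorPower.ιMulti_span]; trivial
  induction hz using Submodule.span_induction with
  | mem y hy =>
    obtain ⟨e, rfl⟩ := hy
    choose e' he' using fun l => exists_ell_transport f g φ φ' θ hθ hV hW hφ hφ' (e l)
    refine ⟨(hM.choose ⟨W, hW⟩).symm (exteriorPower.ιMulti Γ(Y, W) i (M := (Omega.sheaf g).val.obj (op W)) e'),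
      fun D => ?_⟩
    rw [lam_ι, lam_ι]
    congr 1
    ext l r
    exact he' l (D r)
  | zero => exact ⟨0, fun D => by simp only [map_zero]⟩
  | add y z _ _ hy hz =>
    obtain ⟨y', hy'⟩ := hy
    obtain ⟨z', hz'⟩ := hz
    exact ⟨y' + z', fun D => by simp only [map_add, hy' D, hz' D]⟩
  | smul a y _ hy =>
    obtain ⟨y', hy'⟩ := hy
    exact ⟨θ a • y', fun D => by rw [map_smul, LinearMap.map_smulₛₗ, LinearMap.map_smulₛₗ, hy' D, hθ]⟩

include hθ in
theorem exists_ev_transport (hV : Nice L V) (hW : Nice M W)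
    (hφ : ∀ c, φ (sig f V c) = algebraMap k K c) (hφ' : ∀ c, φ' (sig g W c) = algebraMap k K c) :
    ∀ (n : ℕ) (z : Γ(CohB1.tensorPow L n, V)), ∃ z' : Γ(CohB1.tensorPow M n, W),
      ∀ D, ev f hL φ hV hφ n D z = ev g hM φ' hW hφ' n D z' := by
  intro n
  induction n with
  | zero => exact fun z => ⟨θ z, fun D => (hθ z).symm⟩
  | succ n ih =>
    intro z
    obtain ⟨t, rfl⟩ := (WedgeLib.lift_shT_bijective (hV.frames n).choose_spec.choose_spec
      hV.frame.choose_spec.choose_spec (le_rfl : V ≤ V)).2 z
    induction t with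
    | zero => exact ⟨0, fun D => by simp only [map_zero]⟩
    | tmul x y =>
      obtain ⟨x', hx'⟩ := ih x
      obtain ⟨y', hy'⟩ := exists_lam_transport f g hL hM φ φ' θ hθ hV.affine hW.affine hφ hφ' y
      refine ⟨shT x' y', fun D => ?_⟩
      show ev f hL φ hV hφ (n + 1) D (shT x y) = _
      rw [ev_shT, ev_shT, hx', hy']
    | add s t hs ht =>
      obtain ⟨s', hs'⟩ := hs
      obtain ⟨t', ht'⟩ := ht
      refine ⟨s' + t', fun D => ?_⟩
      rw [map_add]
      exact (map_add (ev f hL φ hV hφ (n + 1) D) _ _).trans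
        ((congr_arg₂ (· + ·) (hs' D) (ht' D)).trans (map_add (ev g hM φ' hW hφ' (n + 1) D) _ _).symm)

end Start

include hM in
/-- Dual derivations of a frame. -/
theorem exists_dual {V : Y.Opens} [Nonempty V] (hV : IsAffineOpen V)
    (hk : ∀ c, (Y.germToFunctionField V).hom (sig g V c) = algebraMap k Y.functionField c)
    {a : ℕ} {e : Fin a → Γ(Omega.sheaf g, V)} (he : IsFrame (Omega.sheaf g) e) :
    ∃ D : Set.powersetCard (Fin a) i → Fin i → Derivation k Y.functionField Y.functionField,
      (∀ S r x, D S r ((Y.germToFunctionField V).hom x) ∈ Set.range (Y.germToFunctionField V).hom) ∧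
      ∀ S S', lam g hM (Y.germToFunctionField V).hom hV hk (D S)
        ((hM.choose ⟨V, hV⟩).symm (exteriorPower.ιMulti_family Γ(Y, V) i
          (WedgeLib.frameBasis he (le_rfl : V ≤ V)) S')) = if S' = S then 1 else 0 := by
  classical
  set φ := (Y.germToFunctionField V).hom
  let b := WedgeLib.frameBasis he (le_rfl : V ≤ V)
  have hD : ∀ j : Fin a, ∃ D : Derivation k Y.functionField Y.functionField,
      ∀ x, D (φ x) = φ (b.coord j (OmegaSh.dSect g V x)) := fun j => by
    obtain ⟨D, hD⟩ := exists_coord_derivation g hV hk (φ.toAddMonoidHom.comp (b.coord j).toAddMonoidHom)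
      (fun c w => by
        show φ (b.coord j (c • w)) = φ c * φ (b.coord j w)
        rw [map_smul, smul_eq_mul, map_mul])
    exact ⟨D, hD⟩
  choose Db hDb using hD
  have hell : ∀ j w, ell g φ hV hk (Db j) w = φ (b.coord j w) := fun j w =>
    ell_ext g φ hV (ell g φ hV hk (Db j))
      { toFun := fun w => φ (b.coord j w), map_add' := fun x y => by simp,
        map_smul' := fun c x => by simp [map_smul, smul_eq_mul] }
      (fun x => (ell_d g φ hV hk (Db j) x).trans (hDb j x)) w
  refine ⟨fun S r => Db (Set.powersetCard.ofFinEmbEquiv.symm S r), fun S r x => ⟨_, (hDb _ x).symm⟩, fun S S' => ?_⟩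
  rw [exteriorPower.ιMulti_family, lam_ι]
  split_ifs with hS
  · subst hS
    rw [show (Matrix.of fun l r => ell g φ hV hk (Db (Set.powersetCard.ofFinEmbEquiv.symm S' r))
        ((b ∘ Set.powersetCard.ofFinEmbEquiv.symm S') l)) = 1 from ?_, Matrix.det_one]
    ext l r
    rw [Matrix.of_apply, hell, Function.comp_apply, Module.Basis.coord_apply, Module.Basis.repr_self,
      Finsupp.single_apply, Matrix.one_apply]
    have hinj := (Set.powersetCard.ofFinEmbEquiv.symm S').injective
    rcases eq_or_ne l r with rfl | hlr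
    · rw [if_pos rfl, if_pos rfl, map_one]
    · rw [if_neg (fun h => hlr (hinj h)), if_neg hlr, map_zero]
  · obtain ⟨x, hx', hx⟩ : ∃ x, x ∈ (S' : Finset (Fin a)) ∧ x ∉ (S : Finset (Fin a)) := by
      by_contra! hne
      exact hS (Subtype.ext (Finset.eq_of_subset_of_card_le hne (by rw [S.2, S'.2])))
    obtain ⟨l, hl⟩ : x ∈ Set.range (Set.powersetCard.ofFinEmbEquiv.symm S') := by
      rw [Set.powersetCard.mem_range_ofFinEmbEquiv_symm_iff_mem]; exact hx'
    refine Matrix.det_eq_zero_of_row_eq_zero l fun r => ?_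
    rw [Matrix.of_apply, hell, Function.comp_apply, hl, Module.Basis.coord_apply, Module.Basis.repr_self,
      Finsupp.single_eq_of_ne, map_zero]
    intro h
    refine hx ?_
    rw [← h]
    exact (Set.powersetCard.mem_range_ofFinEmbEquiv_symm_iff_mem _ _).mp ⟨r, rfl⟩

include hM in
/-- A form regular in its values extends. -/
theorem exists_extend {V W : Y.Opens} [Nonempty V] [Nonempty W] (hWV : W ≤ V) (hV : Nice M V) (hW : Nice M W)
    (hk : ∀ c, (Y.germToFunctionField V).hom (sig g V c) = algebraMap k Y.functionField c)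
    (hk' : ∀ c, (Y.germToFunctionField W).hom (sig g W c) = algebraMap k Y.functionField c)
    {a : ℕ} {e : Fin a → Γ(Omega.sheaf g, V)} (he : IsFrame (Omega.sheaf g) e) :
    ∀ (n : ℕ) (z₀ : Γ(CohB1.tensorPow M n, W)),
      (∀ D : Fin n → Fin i → Derivation k Y.functionField Y.functionField,
        (∀ j r x, D j r ((Y.germToFunctionField V).hom x) ∈ Set.range (Y.germToFunctionField V).hom) →
        ev g hM (Y.germToFunctionField W).hom hW hk' n D z₀ ∈ Set.range (Y.germToFunctionField V).hom) →
      ∃ z, res (CohB1.tensorPow M n) hWV z = z₀ := by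
  classical
  have hgerm : ∀ x, (Y.germToFunctionField W).hom (Y.presheaf.map (homOfLE hWV).op x) =
      (Y.germToFunctionField V).hom x := fun x => TopCat.Presheaf.germ_res_apply _ _ _ _ _
  obtain ⟨Dd, hDd, hdual⟩ := exists_dual g hM hV.affine hk he
  intro n
  induction n with
  | zero =>
    intro z₀ h
    obtain ⟨z, hz⟩ := h (fun j => j.elim0) (fun j => j.elim0)
    exact ⟨z, germ_injective_of_isIntegral Y (genericPoint Y) _ ((hgerm z).trans hz)⟩
  | succ n ih =>
    intro z₀ h
    let bV := WedgeLib.frameBasis he (le_rfl : V ≤ V)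
    let bW := WedgeLib.frameBasis he hWV
    let cV : Set.powersetCard (Fin a) i → Γ(M, V) := fun S =>
      (hM.choose ⟨V, hV.affine⟩).symm (exteriorPower.ιMulti_family Γ(Y, V) i bV S)
    let cW : Module.Basis _ Γ(Y, W) Γ(M, W) := (bW.exteriorPower i).map (hM.choose ⟨W, hW.affine⟩).symm
    have hcW : ∀ S, cW S = res M hWV (cV S) := fun S => by
      rw [Module.Basis.map_apply, exteriorPower.basis_apply, exteriorPower.ιMulti_family]
      refine Eq.trans ?_ (hM.choose_spec ⟨V, hV.affine⟩ ⟨W, hW.affine⟩ hWV _).symm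
      refine congrArg (fun v => (hM.choose ⟨W, hW.affine⟩).symm (exteriorPower.ιMulti _ i v)) (funext fun l => ?_)
      show bW _ = res (Omega.sheaf g) hWV (bV _)
      rw [WedgeLib.frameBasis_apply, WedgeLib.frameBasis_apply, res_res]
    let T := LinearEquiv.ofBijective _ (WedgeLib.lift_shT_bijective (hW.frames n).choose_spec.choose_spec
      hW.frame.choose_spec.choose_spec (le_rfl : W ≤ W))
    obtain ⟨t, rfl⟩ := T.surjective z₀
    obtain ⟨y, rfl⟩ := TensorProduct.eq_repr_basis_right cW t
    have hlam : ∀ S S', lam g hM (Y.germToFunctionField W).hom hW.affine hk' (Dd S) (cW S') =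
        if S' = S then 1 else 0 := fun S S' => by
      rw [hcW, ← hdual S S']
      exact (lam_comp g hM (Y.germToFunctionField V).hom hWV (Y.germToFunctionField W).hom (RingHom.id _) hgerm
        hV.affine hW.affine hk hk' (Dd S) (Dd S) (fun _ _ => rfl) (cV S')).symm
    have hy : ∀ S, ∃ z, res (CohB1.tensorPow M n) hWV z = y S := fun S => by
      refine ih (y S) fun D hD => ?_
      have h1 := h (Fin.snoc D (Dd S)) (fun j r x => by
        induction j using Fin.lastCases with
        | last => rw [Fin.snoc_last]; exact hDd S r x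
        | cast j => rw [Fin.snoc_castSucc]; exact hD j r x)
      convert h1 using 1
      rw [Finsupp.sum, map_sum]
      rw [show ev g hM (Y.germToFunctionField W).hom hW hk' (n + 1) (Fin.snoc D (Dd S))
          (∑ S' ∈ y.support, T (y S' ⊗ₜ cW S')) =
        ∑ S' ∈ y.support, ev g hM (Y.germToFunctionField W).hom hW hk' (n + 1) (Fin.snoc D (Dd S))
          (T (y S' ⊗ₜ cW S')) from map_sum _ _ _]
      have hT : ∀ x y, T (x ⊗ₜ y) = shT x y := fun x y => rfl
      refine Eq.symm ((Finset.sum_eq_single S (fun S' _ hne => ?_) (fun hS => ?_)).trans ?_)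
      · rw [hT, ev_shT, Fin.snoc_last, hlam, if_neg hne, mul_zero]
      · rw [Finsupp.notMem_support_iff.mp hS, TensorProduct.zero_tmul, map_zero, map_zero]
      · rw [hT, ev_shT, Fin.snoc_last, hlam, if_pos rfl, mul_one, Fin.init_snoc]
    choose z hz using hy
    refine ⟨∑ S ∈ y.support, shT (z S) (cV S), ?_⟩
    rw [Finsupp.sum, map_sum]
    refine (map_sum ((CohB1.tensorPow M (n + 1)).presheaf.map (homOfLE hWV).op).hom _ _).trans ?_
    refine Finset.sum_congr rfl fun S _ => ?_
    show res (CohB1.tensorMod (CohB1.tensorPow M n) M) hWV (shT (z S) (cV S)) = shT (y S) (cW S)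
    rw [AmpleLib.shT_res, hz, hcW]

include hM in
/-- The structure map of the function field. -/
theorem germ_sig (hK : Y.fromSpecStalk (genericPoint Y) ≫ g = Spec.map (CommRingCat.ofHom (algebraMap k Y.functionField)))
    {V : Y.Opens} [Nonempty V] (hV : IsAffineOpen V) (c : k) :
    (Y.germToFunctionField V).hom (sig g V c) = algebraMap k Y.functionField c :=
  sig_of_over (R := Y.functionField) g hV _ (Y.fromSpecStalk (genericPoint Y))
    (hV.fromSpecStalk_eq_fromSpecStalk (x := genericPoint Y)
      (((genericPoint_spec Y).mem_open_set_iff V.2).mpr (by simpa using Set.nonempty_coe_sort.mp ‹Nonempty V›))) hK c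

variable (ψ : X.functionField ≃+* Y.functionField)
  (hψ : ∀ c, ψ (algebraMap k X.functionField c) = algebraMap k Y.functionField c)
  (hX : X.fromSpecStalk (genericPoint X) ≫ f = Spec.map (CommRingCat.ofHom (algebraMap k X.functionField)))
  (hY : Y.fromSpecStalk (genericPoint Y) ≫ g = Spec.map (CommRingCat.ofHom (algebraMap k Y.functionField)))

/-- The generic point of `Y` as a point of `X`. -/
def gpt : Spec (CommRingCat.of Y.functionField) ⟶ X :=
  Spec.map (CommRingCat.ofHom ψ.toRingHom) ≫ X.fromSpecStalk (genericPoint X)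

include hψ hX in
theorem gpt_over : gpt ψ ≫ f = Spec.map (CommRingCat.ofHom (algebraMap k Y.functionField)) := by
  rw [gpt, Category.assoc, hX, ← Spec.map_comp]
  congr 1
  exact CommRingCat.hom_ext (RingHom.ext hψ)

theorem nonempty_of_mem {V : Y.Opens} {y : Y} (h : y ∈ V) : Nonempty V := ⟨⟨y, h⟩⟩

theorem generic_mem {V : Y.Opens} {y : Y} (h : y ∈ V) : genericPoint Y ∈ V :=
  ((genericPoint_spec Y).mem_open_set_iff V.2).mpr ⟨y, trivial, h⟩

include hL hM hψ hX hY in
/-- **Transport of a tensor form to a birational smooth proper model.** -/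
theorem exists_transport {n : ℕ} (s : Γ(CohB1.tensorPow L n, ⊤)) :
    ∃ s' : Γ(CohB1.tensorPow M n, ⊤), ∀ D r, HasVal f hL s (gpt ψ) D r →
      HasVal (R := Y.functionField) g hM s' (Y.fromSpecStalk (genericPoint Y)) D r := by
  classical
  let F := Y.functionField
  -- a starting chart
  obtain ⟨V, hV, hηV, -⟩ := exists_nice f (L := L) ‹Smooth f› hL (W := ⊤) (x := genericPoint X) trivial
  haveI : Nonempty V := nonempty_of_mem hηV
  let φ0 : Γ(X, V) →+* F := ψ.toRingHom.comp (X.germToFunctionField V).hom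
  have hφ0 : ∀ c, φ0 (sig f V c) = algebraMap k F c := fun c => by
    show ψ ((X.germToFunctionField V).hom (sig f V c)) = _
    rw [germ_sig f hL hX hV.affine, hψ]
  have hgpt : Spec.map (CommRingCat.ofHom φ0) ≫ hV.affine.fromSpec = gpt ψ := by
    rw [gpt, ← hV.affine.fromSpecStalk_eq_fromSpecStalk hηV, IsAffineOpen.fromSpecStalk, ← Category.assoc, ← Spec.map_comp]
    rfl
  letI : Algebra k Γ(X, V) := (sig f V).toAlgebra
  haveI : Algebra.FiniteType k Γ(X, V) := by
    have h1 := Scheme.Hom.finiteType_appLE f (isAffineOpen_top _) hV.affine (le_top : V ≤ f ⁻¹ᵁ ⊤)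
    exact RingHom.FiniteType.comp h1 (RingHom.FiniteType.of_surjective _
      (Scheme.ΓSpecIso (CommRingCat.of k)).commRingCatIsoToRingEquiv.symm.surjective)
  obtain ⟨G, hG⟩ := (inferInstance : Algebra.FiniteType k Γ(X, V)).out
  have hopen : ∀ T : Finset Γ(X, V), ∃ O : Y.Opens, genericPoint Y ∈ O ∧
      ∀ x ∈ T, ∃ (hη : genericPoint Y ∈ O) (b : Γ(Y, O)), Y.presheaf.germ O _ hη b = φ0 x := fun T => by
    induction T using Finset.induction with
    | empty => exact ⟨⊤, trivial, by simp⟩
    | insert x T _ ih =>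
      obtain ⟨O, hO, hT⟩ := ih
      obtain ⟨O', hO', b, hb⟩ := TopCat.Presheaf.exists_germ_eq (F := Y.presheaf) (x := genericPoint Y) (φ0 x)
      refine ⟨O ⊓ O', ⟨hO, hO'⟩, fun z hz => ⟨⟨hO, hO'⟩, ?_⟩⟩
      rcases Finset.mem_insert.mp hz with rfl | hz
      · exact ⟨Y.presheaf.map (homOfLE inf_le_right).op b, (TopCat.Presheaf.germ_res_apply _ _ _ _ _).trans hb⟩
      · obtain ⟨hη, c, hc⟩ := hT z hz
        exact ⟨Y.presheaf.map (homOfLE inf_le_left).op c, (TopCat.Presheaf.germ_res_apply _ _ _ _ _).trans hc⟩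
  obtain ⟨O, hηO, hO⟩ := hopen G
  obtain ⟨W, hW, hηW, hWO⟩ := exists_nice g (L := M) ‹Smooth g› hM (W := O) (x := genericPoint Y) hηO
  haveI : Nonempty W := nonempty_of_mem hηW
  let φ' := (Y.germToFunctionField W).hom
  have hk' : ∀ c, φ' (sig g W c) = algebraMap k F c := germ_sig g hM hY hW.affine
  have hθ : ∀ x, ∃ y, φ' y = φ0 x := fun x => by
    have hx : x ∈ Algebra.adjoin k (G : Set Γ(X, V)) := by rw [hG]; trivial
    induction hx using Algebra.adjoin_induction with
    | mem z hz =>
      obtain ⟨hη, b, hb⟩ := hO z hz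
      exact ⟨Y.presheaf.map (homOfLE hWO).op b, (TopCat.Presheaf.germ_res_apply _ _ _ _ _).trans hb⟩
    | algebraMap c => exact ⟨sig g W c, (hk' c).trans (hφ0 c).symm⟩
    | add x y _ _ hx hy =>
      obtain ⟨a, ha⟩ := hx; obtain ⟨b, hb⟩ := hy
      exact ⟨a + b, by rw [map_add, map_add, ha, hb]⟩
    | mul x y _ _ hx hy =>
      obtain ⟨a, ha⟩ := hx; obtain ⟨b, hb⟩ := hy
      exact ⟨a * b, by rw [map_mul, map_mul, ha, hb]⟩
  choose θ hθ using hθ
  obtain ⟨z₀, hz₀⟩ := exists_ev_transport f g hL hM φ0 φ' θ hθ hV hW hφ0 hk' n (res (CohB1.tensorPow L n) le_top s)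
  have hval : ∀ D, HasVal f hL s (gpt ψ) D (ev g hM φ' hW hk' n D z₀) := fun D =>
    ⟨V, hV, φ0, hφ0, hgpt, (hz₀ D).symm⟩
  -- the sections on a cover
  have hsec : ∀ y : Y, ∃ (U : Y.Opens) (hU : Nice M U) (_ : y ∈ U) (a : ℕ) (e : Fin a → Γ(Omega.sheaf g, U))
      (_ : IsFrame (Omega.sheaf g) e) (hk : ∀ c, (Y.presheaf.germ U _ (generic_mem ‹y ∈ U›)).hom (sig g U c) = algebraMap k F c)
      (z : Γ(CohB1.tensorPow M n, U)),
      ∀ D, ev g hM (Y.presheaf.germ U _ (generic_mem ‹y ∈ U›)).hom hU hk n D z = ev g hM φ' hW hk' n D z₀ := by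
    intro y
    obtain ⟨O₁, a, e, hyO, he⟩ := ProjFormLib.exists_frame (SmDefLib.isFinLocFree_omega g) y
    obtain ⟨U, hU, hyU, hUO⟩ := exists_nice g (L := M) ‹Smooth g› hM hyO
    haveI : Nonempty U := nonempty_of_mem hyU
    have hk := germ_sig g hM hY hU.affine
    obtain ⟨W₁, hW₁, hηW₁, hW₁le⟩ := exists_nice g (L := M) ‹Smooth g› hM (W := U ⊓ W) (x := genericPoint Y) ⟨generic_mem hyU, hηW⟩
    haveI : Nonempty W₁ := nonempty_of_mem hηW₁
    have hk₁ := germ_sig g hM hY hW₁.affine
    let z₁ := res (CohB1.tensorPow M n) (hW₁le.trans inf_le_right) z₀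
    have hz₁ : ∀ D, ev g hM (Y.germToFunctionField W₁).hom hW₁ hk₁ n D z₁ = ev g hM φ' hW hk' n D z₀ := fun D =>
      (ev_comp g hM φ' (hW₁le.trans inf_le_right) (Y.germToFunctionField W₁).hom (RingHom.id _)
        (fun x => TopCat.Presheaf.germ_res_apply _ _ _ _ _) hW hW₁ hk' hk₁ n D D (fun _ _ _ => rfl) z₀).symm
    obtain ⟨z, hz⟩ := exists_extend g hM (hW₁le.trans inf_le_left) hU hW₁ hk hk₁ (he.res hUO) n z₁ (by
      intro D hD
      rw [hz₁]
      haveI : IsLocallyNoetherian Y := LocallyOfFiniteType.isLocallyNoetherian g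
      haveI : IsNoetherianRing Γ(Y, U) := IsLocallyNoetherian.component_noetherian ⟨U, hU.affine⟩
      haveI := functionField_isFractionRing_of_isAffineOpen Y U hU.affine
      haveI : IsDomain Γ(Y, U) := inferInstance
      haveI : IsIntegrallyClosed Γ(Y, U) := Groth.Agent.NormExt.isIntegrallyClosed_sections
        (fun x => by
          haveI := RTrivLib.regular_stalk g x
          exact NormalLib.isIntegrallyClosed_of_isRegularLocalRing _) hU.affine
      set φU := (Y.germToFunctionField U).hom
      set v := ev g hM φ' hW hk' n D z₀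
      let eF := IsLocalization.algEquiv (nonZeroDivisors Γ(Y, U)) (FractionRing Γ(Y, U)) F
      obtain ⟨x, hx⟩ := Groth.Agent.S2111.result (eF.symm v) fun p _ hp => by
        haveI : IsDiscreteValuationRing (Localization.AtPrime p) := ReducedDivLib.isDVR_localization hp
        let R := Localization.AtPrime p
        letI : Algebra k Γ(Y, U) := (sig g U).toAlgebra
        have hunit : ∀ q : p.primeCompl, IsUnit (algebraMap Γ(Y, U) F q) := fun q =>
          IsLocalization.map_units F ⟨q.1, p.primeCompl_le_nonZeroDivisors q.2⟩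
        let Ψ : R →+* F := IsLocalization.lift (M := p.primeCompl) hunit
        have hΨ : ∀ x, Ψ (algebraMap _ R x) = φU x := fun x => IsLocalization.lift_eq _ x
        letI : Algebra R F := Ψ.toAlgebra
        haveI : IsScalarTower Γ(Y, U) R F := IsScalarTower.of_algebraMap_eq fun x => (hΨ x).symm
        haveI : IsFractionRing R F := IsFractionRing.isFractionRing_of_isDomain_of_isLocalization p.primeCompl R F
        have hkR : ∀ c, Ψ (algebraMap k R c) = algebraMap k F c := fun c => by
          rw [IsScalarTower.algebraMap_apply k Γ(Y, U) R c, hΨ]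
          exact hk c
        have hDR : ∀ j r, ∃ D' : Derivation k R R, ∀ x, Ψ (D' x) = D j r (Ψ x) := fun j r => by
          choose δ hδ using hD j r
          have hinj : Function.Injective φU := Y.germToFunctionField_injective U
          have hδ0 : δ 0 = 0 := hinj (by rw [hδ, map_zero, map_zero])
          have hδa : ∀ a b, δ (a + b) = δ a + δ b := fun a b => hinj (by rw [hδ, map_add, map_add, map_add, hδ, hδ])
          have hδm : ∀ a b, δ (a * b) = a * δ b + b * δ a := fun a b => hinj (by
            rw [hδ, map_mul, Derivation.leibniz, smul_eq_mul, smul_eq_mul, map_add, map_mul, map_mul, hδ, hδ])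
          have hδ1 : δ 1 = 0 := hinj (by rw [hδ, map_one, Derivation.map_one_eq_zero, map_zero])
          let ψR : Γ(Y, U) →+* TrivSqZeroExt R R :=
            { toFun := fun x => ⟨algebraMap _ R x, algebraMap _ R (δ x)⟩
              map_one' := TrivSqZeroExt.ext (map_one _) (by rw [TrivSqZeroExt.snd_one]; show algebraMap _ R (δ 1) = 0; rw [hδ1, map_zero])
              map_zero' := TrivSqZeroExt.ext (map_zero _) (by simp [hδ0, TrivSqZeroExt.snd])
              map_add' := fun a b => TrivSqZeroExt.ext (map_add _ a b) (by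
                show algebraMap _ R (δ (a + b)) = algebraMap _ R (δ a) + algebraMap _ R (δ b)
                rw [hδa, map_add])
              map_mul' := fun a b => TrivSqZeroExt.ext (map_mul _ a b) (by
                show algebraMap _ R (δ (a * b)) = _
                rw [hδm, map_add, map_mul, map_mul, TrivSqZeroExt.snd_mul]
                simp [TrivSqZeroExt.fst, TrivSqZeroExt.snd, smul_eq_mul, mul_comm]) }
          obtain ⟨D', hD'⟩ := exists_derivation_of_lift p.primeCompl ψR (fun x => rfl) (sig g U)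
            (fun c => (IsScalarTower.algebraMap_apply k Γ(Y, U) R c).symm) (fun c => by
              show algebraMap _ R (δ (sig g U c)) = 0
              have : δ (sig g U c) = 0 := hinj (by rw [hδ, hk, Derivation.map_algebraMap, map_zero])
              rw [this, map_zero])
          refine ⟨D', derivation_compat p.primeCompl Ψ D' (D j r) (fun a b => by simp [Derivation.leibniz])
            (fun a b => by simp [Derivation.leibniz]) fun a => ?_⟩
          rw [hD', hΨ]
          show Ψ (algebraMap _ R (δ a)) = _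
          rw [hΨ, hδ]
        choose D' hD' using hDR
        have hsq : CommSq (gpt ψ) (Spec.map (CommRingCat.ofHom (algebraMap R F))) f
            (Spec.map (CommRingCat.ofHom (algebraMap k R))) := ⟨by
          rw [gpt_over f ψ hψ hX, ← Spec.map_comp]
          congr 1
          exact CommRingCat.hom_ext (RingHom.ext fun c => (hkR c).symm)⟩
        have hex : ValuativeCriterion.Existence f := by
          have h := (inferInstance : UniversallyClosed f)
          rw [UniversallyClosed.eq_valuativeCriterion] at h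
          exact h.1
        obtain ⟨⟨l⟩⟩ := (hex
          { R := R, K := F, i₁ := gpt ψ, i₂ := _, commSq := hsq })
        obtain ⟨w, hw⟩ := exists_hasVal f hL s l.l l.fac_right D'
        have h1 : HasVal f hL s (gpt ψ) D (Ψ w) := hasVal_map f hL s Ψ hkR hD' hw l.fac_left
        have e1 : Ψ w = v := hasVal_unique f hL s h1 (hval D)
        refine ⟨w, ?_⟩
        have e2 : eF.toRingEquiv.toRingHom.comp (algebraMap R (FractionRing Γ(Y, U))) = Ψ :=
          IsLocalization.ringHom_ext p.primeCompl (RingHom.ext fun a => by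
            show eF (algebraMap R _ (algebraMap _ R a)) = Ψ (algebraMap _ R a)
            rw [← IsScalarTower.algebraMap_apply, AlgEquiv.commutes, hΨ]
            rfl)
        apply eF.injective
        rw [AlgEquiv.apply_symm_apply, ← e1, ← e2]
        rfl
      refine ⟨x, ?_⟩
      have := congrArg eF hx
      rw [AlgEquiv.commutes, AlgEquiv.apply_symm_apply] at this
      exact this)
    refine ⟨U, hU, hyU, a, _, he.res hUO, hk, z, fun D => ?_⟩
    rw [← hz₁ D, ← hz]
    exact (ev_comp g hM (Y.germToFunctionField U).hom (hW₁le.trans inf_le_left) (Y.germToFunctionField W₁).hom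
      (RingHom.id _) (fun x => TopCat.Presheaf.germ_res_apply _ _ _ _ _) hU hW₁ hk hk₁ n D D (fun _ _ _ => rfl) z)
  choose U hU hyU a e he hk z hz using hsec
  obtain ⟨s', hs', -⟩ := TopCat.Sheaf.existsUnique_gluing'
    (⟨(CohB1.tensorPow M n).presheaf, (CohB1.tensorPow M n).isSheaf⟩ : TopCat.Sheaf AddCommGrpCat _)
    U ⊤ (fun y => homOfLE le_top) (fun y _ => Opens.mem_iSup.2 ⟨y, hyU y⟩) z (fun p q => by
      choose B hB hxB hBle using fun x : (U p ⊓ U q : Y.Opens) =>
        exists_nice g (L := M) ‹Smooth g› hM (W := U p ⊓ U q) x.2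
      refine TopCat.Sheaf.eq_of_locally_eq' (⟨(CohB1.tensorPow M n).presheaf, (CohB1.tensorPow M n).isSheaf⟩ : TopCat.Sheaf AddCommGrpCat _)
        B (U p ⊓ U q) (fun x => homOfLE (hBle x)) (fun x hx => Opens.mem_iSup.2 ⟨⟨x, hx⟩, hxB _⟩) _ _ fun x => ?_
      haveI : Nonempty (B x) := nonempty_of_mem (hxB x)
      have hkB := germ_sig g hM hY (hB x).affine
      show res (CohB1.tensorPow M n) (hBle x) (res (CohB1.tensorPow M n) inf_le_left (z p)) =
        res (CohB1.tensorPow M n) (hBle x) (res (CohB1.tensorPow M n) inf_le_right (z q))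
      rw [res_res, res_res, ← sub_eq_zero]
      refine eq_zero_of_ev g hM (hB x) hkB ((he p).res ((hBle x).trans inf_le_left)) n _ fun D => ?_
      rw [map_sub, sub_eq_zero]
      refine ((ev_comp g hM _ ((hBle x).trans inf_le_left) (Y.germToFunctionField (B x)).hom (RingHom.id _)
          (fun _ => TopCat.Presheaf.germ_res_apply _ _ _ _ _) (hU p) (hB x) (hk p) hkB n D D (fun _ _ _ => rfl) (z p)).symm.trans
          ((hz p D).trans (hz q D).symm)).trans ?_
      exact ev_comp g hM _ ((hBle x).trans inf_le_right) (Y.germToFunctionField (B x)).hom (RingHom.id _)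
          (fun _ => TopCat.Presheaf.germ_res_apply _ _ _ _ _) (hU q) (hB x) (hk q) hkB n D D (fun _ _ _ => rfl) (z q))
  refine ⟨s', fun D r hr => ?_⟩
  let y := genericPoint Y
  refine ⟨U y, hU y, _, hk y, (hU y).affine.fromSpecStalk_eq_fromSpecStalk (generic_mem (hyU y)), ?_⟩
  rw [hasVal_unique f hL s hr (hval D), ← hz y D]
  exact congrArg _ (hs' y).symm

end RFormLib

end
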