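import Groth.Agent.RFormLib.Birat
import Groth.Agent.GenusZeroLib.Mult
import Groth.Agent.CurveH0Lib.Smooth
import Groth.Agent.HilbPolyLib.Twist

/-!
# Birational invariance of spaces of tensor forms
-/

set_option autoImplicit false
set_option linter.style.haveILetI false
set_option linter.unusedSectionVars false
set_option backward.isDefEq.respectTransparency false
set_option backward.isDefEq.respectTransparency.types false
set_option maxHeartbeats 1000000
universe u

open CategoryTheory CategoryTheory.Limits AlgebraicGeometry Opposite TopologicalSpace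
open AmpleLib (res res_res)
open ProjFormLib (IsFrame)

noncomputable section

namespace RFormLib

variable {k : Type u} [Field k] {X : Scheme.{u}} (f : X ⟶ Spec (CommRingCat.of k)) [IsProper f] [Smooth f]
  [IsIntegral X] [Algebra k X.functionField]
  {Y : Scheme.{u}} (g : Y ⟶ Spec (CommRingCat.of k)) [IsProper g] [Smooth g] [IsIntegral Y]
  [Algebra k Y.functionField]
  {i n : ℕ} {L : X.Modules} (hL : ExtPow.IsExtPow i (Omega.sheaf f) L)
  {M : Y.Modules} (hM : ExtPow.IsExtPow i (Omega.sheaf g) M)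
  (hX : X.fromSpecStalk (genericPoint X) ≫ f = Spec.map (CommRingCat.ofHom (algebraMap k X.functionField)))
  (hY : Y.fromSpecStalk (genericPoint Y) ≫ g = Spec.map (CommRingCat.ofHom (algebraMap k Y.functionField)))

include hX in
/-- A form is determined by its values at the generic point. -/
theorem eq_of_hasVal (s s' : Γ(CohB1.tensorPow L n, ⊤))
    (h : ∀ D r, HasVal (R := X.functionField) f hL s (X.fromSpecStalk (genericPoint X)) D r →
      HasVal (R := X.functionField) f hL s' (X.fromSpecStalk (genericPoint X)) D r) : s = s' := by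
  have hloc : ∀ x : X, ∃ V : X.Opens, x ∈ V ∧ res (CohB1.tensorPow L n) (le_top : V ≤ ⊤) s = res (CohB1.tensorPow L n) le_top s' := by
    intro x
    obtain ⟨O, a, e, hxO, he⟩ := ProjFormLib.exists_frame (SmDefLib.isFinLocFree_omega f) x
    obtain ⟨V, hV, hxV, hVO⟩ := exists_nice f (L := L) ‹Smooth f› hL hxO
    haveI : Nonempty V := ⟨⟨x, hxV⟩⟩
    have hk := germ_sig f hL hX hV.affine
    have hg : Spec.map (CommRingCat.ofHom (X.germToFunctionField V).hom) ≫ hV.affine.fromSpec =
        X.fromSpecStalk (genericPoint X) := hV.affine.fromSpecStalk_eq_fromSpecStalk (generic_mem hxV)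
    refine ⟨V, hxV, ?_⟩
    rw [← sub_eq_zero]
    refine eq_zero_of_ev f hL hV hk (he.res hVO) n _ fun D => ?_
    rw [map_sub, sub_eq_zero]
    exact hasVal_unique f hL s' (h D _ ⟨V, hV, _, hk, hg, rfl⟩) ⟨V, hV, _, hk, hg, rfl⟩
  choose V hxV hV using hloc
  exact TopCat.Sheaf.eq_of_locally_eq' (⟨(CohB1.tensorPow L n).presheaf, (CohB1.tensorPow L n).isSheaf⟩ :
    TopCat.Sheaf AddCommGrpCat _) V ⊤ (fun x => homOfLE le_top) (fun x _ => Opens.mem_iSup.2 ⟨x, hxV x⟩) _ _ hV

theorem hasVal_add {R : Type u} [CommRing R] [IsLocalRing R] [Algebra k R] {p : Spec (CommRingCat.of R) ⟶ X}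
    {D : Fin n → Fin i → Derivation k R R} {s s' : Γ(CohB1.tensorPow L n, ⊤)} {r r' t : R}
    (h : HasVal f hL s p D r) (h' : HasVal f hL s' p D r') (ht : HasVal f hL (s + s') p D t) : t = r + r' := by
  obtain ⟨V, hV, φ, hφ, hp, rfl⟩ := ht
  rw [hasVal_unique f hL s h ⟨V, hV, φ, hφ, hp, rfl⟩, hasVal_unique f hL s' h' ⟨V, hV, φ, hφ, hp, rfl⟩]
  exact (congrArg _ (map_add ((CohB1.tensorPow L n).presheaf.map (homOfLE le_top).op).hom s s')).trans (map_add _ _ _)

theorem hasVal_smul {R : Type u} [CommRing R] [IsLocalRing R] [Algebra k R] {p : Spec (CommRingCat.of R) ⟶ X}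
    {D : Fin n → Fin i → Derivation k R R} {s : Γ(CohB1.tensorPow L n, ⊤)} {r t : R} (c : k)
    (h : HasVal f hL s p D r) (ht : HasVal f hL ((show Γ(X, ⊤) from Coh.toGlobal f c) • s) p D t) : t = algebraMap k R c * r := by
  obtain ⟨V, hV, φ, hφ, hp, rfl⟩ := ht
  rw [hasVal_unique f hL s h ⟨V, hV, φ, hφ, hp, rfl⟩, AmpleLib.res_smul, LinearMap.map_smulₛₗ, smul_eq_mul, ← hφ]
  refine congrArg (fun a => φ a * _) ?_
  show X.presheaf.map (homOfLE le_top).op (Coh.toGlobal f c) = f.appLE ⊤ V le_top _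
  rw [Scheme.Hom.appLE]
  rfl

variable (ψ : X.functionField ≃+* Y.functionField)
  (hψ : ∀ c, ψ (algebraMap k X.functionField c) = algebraMap k Y.functionField c)

include hL hM hψ hX hY in
/-- The transported form. -/
def transport (s : Γ(CohB1.tensorPow L n, ⊤)) : Γ(CohB1.tensorPow M n, ⊤) :=
  (exists_transport f g hL hM ψ hψ hX hY s).choose

include hL hM hψ hX hY in
theorem transport_spec (s : Γ(CohB1.tensorPow L n, ⊤)) (D : Fin n → Fin i → Derivation k Y.functionField Y.functionField)
    (r : Y.functionField) (h : HasVal f hL s (gpt ψ) D r) :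
    HasVal (R := Y.functionField) g hM (transport f g hL hM hX hY ψ hψ s) (Y.fromSpecStalk (genericPoint Y)) D r :=
  (exists_transport f g hL hM ψ hψ hX hY s).choose_spec D r h

include hL hM hψ hX hY in
theorem transport_iff (s : Γ(CohB1.tensorPow L n, ⊤)) (D : Fin n → Fin i → Derivation k Y.functionField Y.functionField)
    (r : Y.functionField) :
    HasVal f hL s (gpt ψ) D r ↔
      HasVal (R := Y.functionField) g hM (transport f g hL hM hX hY ψ hψ s) (Y.fromSpecStalk (genericPoint Y)) D r := by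
  refine ⟨transport_spec f g hL hM hX hY ψ hψ s D r, fun h => ?_⟩
  obtain ⟨r', hr'⟩ := exists_hasVal f hL s (gpt ψ) (gpt_over f ψ hψ hX) D
  exact hasVal_unique g hM _ h (transport_spec f g hL hM hX hY ψ hψ s D r' hr') ▸ hr'

/-- A derivation moved along an isomorphism of fields. -/
def mapDer (D : Derivation k X.functionField X.functionField) : Derivation k Y.functionField Y.functionField :=
  Derivation.mk'
    { toFun := fun y => ψ (D (ψ.symm y))
      map_add' := fun a b => by simp
      map_smul' := fun c y => by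
        have hc : ψ.symm (algebraMap k Y.functionField c) = algebraMap k X.functionField c :=
          ψ.injective (by rw [RingEquiv.apply_symm_apply, hψ])
        rw [RingHom.id_apply, Algebra.smul_def, Algebra.smul_def, map_mul, hc, Derivation.leibniz,
          Derivation.map_algebraMap, smul_zero, add_zero, smul_eq_mul, map_mul, hψ] }
    (fun a b => by simp [Derivation.leibniz])

theorem mapDer_spec (D : Derivation k X.functionField X.functionField) (x : X.functionField) :
    mapDer ψ hψ D (ψ x) = ψ (D x) := by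
  show ψ (D (ψ.symm (ψ x))) = _
  rw [RingEquiv.symm_apply_apply]

include hψ in
theorem hψ_symm (c : k) : ψ.symm (algebraMap k Y.functionField c) = algebraMap k X.functionField c :=
  ψ.injective (by rw [RingEquiv.apply_symm_apply, hψ])

include hL hM hψ hX hY in
theorem transport_transport (s : Γ(CohB1.tensorPow L n, ⊤)) :
    transport g f hM hL hY hX ψ.symm (hψ_symm ψ hψ) (transport f g hL hM hX hY ψ hψ s) = s := by
  refine (eq_of_hasVal f hL hX _ _ fun D r hr => ?_).symm
  have h1 : HasVal f hL s (gpt ψ) (fun j l => mapDer ψ hψ (D j l)) (ψ r) :=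
    hasVal_map f hL s ψ.toRingHom hψ (fun j l x => (mapDer_spec ψ hψ (D j l) x).symm) hr rfl
  have h2 := transport_spec f g hL hM hX hY ψ hψ s _ _ h1
  have h3 : HasVal g hM (transport f g hL hM hX hY ψ hψ s) (gpt ψ.symm) D (ψ.symm (ψ r)) :=
    hasVal_map g hM _ ψ.symm.toRingHom (hψ_symm ψ hψ)
      (fun j l x => by
        show ψ.symm (mapDer ψ hψ (D j l) x) = D j l (ψ.symm x)
        apply ψ.injective
        rw [RingEquiv.apply_symm_apply, ← mapDer_spec ψ hψ, RingEquiv.apply_symm_apply]) h2 rfl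
  rw [RingEquiv.symm_apply_apply] at h3
  exact transport_spec g f hM hL hY hX ψ.symm (hψ_symm ψ hψ) _ D r h3

include hL hM hψ hX hY in
/-- **Tensor forms of birational smooth proper varieties.** -/
theorem nonempty_linearEquiv :
    letI : Module k Γ(CohB1.tensorPow L n, ⊤) := Module.compHom _ (show k →+* Γ(X, ⊤) from Coh.toGlobal f)
    letI : Module k Γ(CohB1.tensorPow M n, ⊤) := Module.compHom _ (show k →+* Γ(Y, ⊤) from Coh.toGlobal g)
    Nonempty (Γ(CohB1.tensorPow L n, ⊤) ≃ₗ[k] Γ(CohB1.tensorPow M n, ⊤)) := by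
  letI : Module k Γ(CohB1.tensorPow L n, ⊤) := Module.compHom _ (show k →+* Γ(X, ⊤) from Coh.toGlobal f)
  letI : Module k Γ(CohB1.tensorPow M n, ⊤) := Module.compHom _ (show k →+* Γ(Y, ⊤) from Coh.toGlobal g)
  have hψ' := hψ_symm ψ hψ
  have hval : ∀ (s : Γ(CohB1.tensorPow L n, ⊤)) (D : Fin n → Fin i → Derivation k Y.functionField Y.functionField),
      ∃ r, HasVal f hL s (gpt ψ) D r := fun s D => exists_hasVal f hL s (gpt ψ) (gpt_over f ψ hψ hX) D
  refine ⟨{ toFun := transport f g hL hM hX hY ψ hψ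
            invFun := transport g f hM hL hY hX ψ.symm hψ'
            map_add' := fun s s' => ?_
            map_smul' := fun c s => ?_
            left_inv := transport_transport f g hL hM hX hY ψ hψ
            right_inv := fun s => by
              have := transport_transport g f hM hL hY hX ψ.symm hψ' s
              simpa only [RingEquiv.symm_symm] using this }⟩
  · refine (eq_of_hasVal g hM hY _ _ fun D t ht => ?_)
    rw [← transport_iff] at ht
    obtain ⟨r, hr⟩ := hval s D
    obtain ⟨r', hr'⟩ := hval s' D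
    obtain ⟨t', ht'⟩ := exists_hasVal (R := Y.functionField) g hM
      (transport f g hL hM hX hY ψ hψ s + transport f g hL hM hX hY ψ hψ s') (Y.fromSpecStalk (genericPoint Y)) hY D
    rw [hasVal_add g hM (transport_spec f g hL hM hX hY ψ hψ s D r hr)
      (transport_spec f g hL hM hX hY ψ hψ s' D r' hr') ht'] at ht'
    rw [hasVal_add f hL hr hr' ht]
    exact ht'
  · refine (eq_of_hasVal g hM hY _ _ fun D t ht => ?_)
    rw [← transport_iff] at ht
    obtain ⟨r, hr⟩ := hval s D
    obtain ⟨t', ht'⟩ := exists_hasVal (R := Y.functionField) g hM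
      ((show Γ(Y, ⊤) from Coh.toGlobal g c) • transport f g hL hM hX hY ψ hψ s) (Y.fromSpecStalk (genericPoint Y)) hY D
    rw [hasVal_smul g hM c (transport_spec f g hL hM hX hY ψ hψ s D r hr) ht'] at ht'
    rw [hasVal_smul f hL c hr ht]
    exact ht'

end RFormLib

namespace RFormLib

theorem exists_field_hom {Y : Scheme.{u}} {K : Type u} [Field K] (a : Spec (CommRingCat.of K) ⟶ Y) (y : Y)
    (h : a (IsLocalRing.closedPoint K) = y) :
    ∃ φ : Y.presheaf.stalk y ⟶ CommRingCat.of K, Spec.map φ ≫ Y.fromSpecStalk y = a := by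
  subst h
  exact ⟨Scheme.stalkClosedPointTo a, Scheme.Spec_stalkClosedPointTo_fromSpecStalk a⟩

theorem exists_hom_of_open {X Y : Scheme.{u}} [IsIntegral X] [IsIntegral Y] (U : X.Opens) (hη : genericPoint X ∈ U)
    (j : (U : Scheme.{u}) ⟶ Y) [IsOpenImmersion j] :
    ∃ φ : Y.functionField ⟶ X.functionField,
      Spec.map φ ≫ Y.fromSpecStalk (genericPoint Y) = U.fromSpecStalkOfMem (genericPoint X) hη ≫ j := by
  haveI : Nonempty U := ⟨⟨_, hη⟩⟩
  haveI : IsIntegral (U : Scheme.{u}) := isIntegral_of_isOpenImmersion U.ι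
  refine exists_field_hom (K := X.functionField) (U.fromSpecStalkOfMem (genericPoint X) hη ≫ j) (genericPoint Y) ?_
  have h1 : U.fromSpecStalkOfMem (genericPoint X) hη (IsLocalRing.closedPoint _) = genericPoint (U : Scheme.{u}) := by
    apply U.ι.isOpenEmbedding.injective
    rw [genericPoint_eq_of_isOpenImmersion]
    change (U.fromSpecStalkOfMem (genericPoint X) hη ≫ U.ι) _ = _
    rw [Scheme.Opens.fromSpecStalkOfMem_ι, Scheme.fromSpecStalk_closedPoint]
  show j (U.fromSpecStalkOfMem (genericPoint X) hη (IsLocalRing.closedPoint _)) = _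
  rw [h1, genericPoint_eq_of_isOpenImmersion]

/-- The isomorphism of function fields of a birational isomorphism. -/
theorem exists_field_iso {S X Y : Scheme.{u}} [IsIntegral X] [IsIntegral Y] (f : X ⟶ S) (g : Y ⟶ S)
    (U : X.Opens) (U' : Y.Opens) (hU : (U : Set X).Nonempty) (e : (U : Scheme.{u}) ≅ (U' : Scheme.{u}))
    (he : e.hom ≫ U'.ι ≫ g = U.ι ≫ f) :
    ∃ φ : Y.functionField ≅ X.functionField,
      Spec.map φ.hom ≫ Y.fromSpecStalk (genericPoint Y) ≫ g = X.fromSpecStalk (genericPoint X) ≫ f := by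
  have hη : genericPoint X ∈ U := ((genericPoint_spec X).mem_open_set_iff U.2).mpr (by simpa using hU)
  have hη' : genericPoint Y ∈ U' := ((genericPoint_spec Y).mem_open_set_iff U'.2).mpr
    ⟨_, trivial, (e.hom ⟨_, hη⟩).2⟩
  obtain ⟨φ, hφ⟩ := exists_hom_of_open U hη (e.hom ≫ U'.ι)
  obtain ⟨φ', hφ'⟩ := exists_hom_of_open U' hη' (e.inv ≫ U.ι)
  have key : Spec.map φ' ≫ U.fromSpecStalkOfMem (genericPoint X) hη = U'.fromSpecStalkOfMem (genericPoint Y) hη' ≫ e.inv := by
    rw [← cancel_mono U.ι, Category.assoc, Category.assoc, Scheme.Opens.fromSpecStalkOfMem_ι, hφ']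
  have key' : Spec.map φ ≫ U'.fromSpecStalkOfMem (genericPoint Y) hη' = U.fromSpecStalkOfMem (genericPoint X) hη ≫ e.hom := by
    rw [← cancel_mono U'.ι, Category.assoc, Category.assoc, Scheme.Opens.fromSpecStalkOfMem_ι, hφ]
  have h1 : φ ≫ φ' = 𝟙 _ := Spec.map_injective ((cancel_mono (Y.fromSpecStalk (genericPoint Y))).1 (by
    rw [Spec.map_comp, Category.assoc, hφ, ← Category.assoc, key, Category.assoc, Iso.inv_hom_id_assoc,
      Scheme.Opens.fromSpecStalkOfMem_ι, Spec.map_id, Category.id_comp]))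
  have h2 : φ' ≫ φ = 𝟙 _ := Spec.map_injective ((cancel_mono (X.fromSpecStalk (genericPoint X))).1 (by
    rw [Spec.map_comp, Category.assoc, hφ', ← Category.assoc, key', Category.assoc, Iso.hom_inv_id_assoc,
      Scheme.Opens.fromSpecStalkOfMem_ι, Spec.map_id, Category.id_comp]))
  refine ⟨⟨φ, φ', h1, h2⟩, ?_⟩
  rw [← Category.assoc, hφ, Category.assoc, Category.assoc, he, ← Category.assoc, Scheme.Opens.fromSpecStalkOfMem_ι]

/-- **Birational invariance of spaces of tensor forms.** -/
theorem finrank_eq_of_birational (k : Type u) [Field k] [IsAlgClosed k]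
    (X Y : Scheme.{u}) [X.Over (Spec (CommRingCat.of k))] [Y.Over (Spec (CommRingCat.of k))] [IsIntegral X] [IsIntegral Y]
    [IsProper (X ↘ Spec (CommRingCat.of k))] [IsProper (Y ↘ Spec (CommRingCat.of k))]
    (hreg : ∀ x : X, IsRegularLocalRing (X.presheaf.stalk x))
    (hreg' : ∀ x : Y, IsRegularLocalRing (Y.presheaf.stalk x))
    (U : X.Opens) (U' : Y.Opens) (hU : (U : Set X).Nonempty) (e : (U : Scheme.{u}) ≅ (U' : Scheme.{u}))
    (he : e.hom ≫ U'.ι ≫ (Y ↘ Spec (CommRingCat.of k)) = U.ι ≫ (X ↘ Spec (CommRingCat.of k)))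
    (i n : ℕ) (L : X.Modules) (hL : ExtPow.IsExtPow i (Omega.sheaf (X ↘ Spec (CommRingCat.of k))) L)
    (M : Y.Modules) (hM : ExtPow.IsExtPow i (Omega.sheaf (Y ↘ Spec (CommRingCat.of k))) M) :
    Module.finrank k (Coh.HH X (CohB1.tensorPow L n) 0) = Module.finrank k (Coh.HH Y (CohB1.tensorPow M n) 0) := by
  haveI := CurveH0Lib.smooth_of_regular k (X ↘ Spec (CommRingCat.of k)) hreg
  haveI := CurveH0Lib.smooth_of_regular k (Y ↘ Spec (CommRingCat.of k)) hreg'
  obtain ⟨φ, hφ⟩ := exists_field_iso (X ↘ Spec (CommRingCat.of k)) (Y ↘ Spec (CommRingCat.of k)) U U' hU e he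
  obtain ⟨a, ha⟩ := Spec.map_surjective (Y.fromSpecStalk (genericPoint Y) ≫ (Y ↘ Spec (CommRingCat.of k)))
  letI : Algebra k Y.functionField := a.hom.toAlgebra
  letI : Algebra k X.functionField := (a ≫ φ.hom).hom.toAlgebra
  have hY : Y.fromSpecStalk (genericPoint Y) ≫ (Y ↘ Spec (CommRingCat.of k)) =
      Spec.map (CommRingCat.ofHom (algebraMap k Y.functionField)) := ha.symm
  have hX : X.fromSpecStalk (genericPoint X) ≫ (X ↘ Spec (CommRingCat.of k)) =
      Spec.map (CommRingCat.ofHom (algebraMap k X.functionField)) := by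
    rw [← hφ, ← ha, ← Spec.map_comp]; rfl
  let ψ : X.functionField ≃+* Y.functionField := φ.symm.commRingCatIsoToRingEquiv
  have hψ : ∀ c, ψ (algebraMap k X.functionField c) = algebraMap k Y.functionField c := fun c => by
    show φ.inv (φ.hom (a c)) = a c
    exact ConcreteCategory.congr_hom φ.hom_inv_id (a c)
  letI := GenusZeroLib.kmod k (CohB1.tensorPow L n)
  letI := GenusZeroLib.kmod k (CohB1.tensorPow M n)
  obtain ⟨T⟩ := nonempty_linearEquiv (X ↘ Spec (CommRingCat.of k)) (Y ↘ Spec (CommRingCat.of k)) (n := n) hL hM hX hY ψ hψ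
  rw [(GenusZeroLib.e0k k (CohB1.tensorPow L n)).finrank_eq, (GenusZeroLib.e0k k (CohB1.tensorPow M n)).finrank_eq]
  exact T.finrank_eq

end RFormLib

end

namespace RFormLib

theorem finrank_h0_congr (k : Type u) [Field k] {X : Scheme.{u}} [X.Over (Spec (CommRingCat.of k))] {A B : X.Modules}
    (e : A ≅ B) : Module.finrank k (Coh.HH X A 0) = Module.finrank k (Coh.HH X B 0) := by
  letI := GenusZeroLib.kmod k A
  letI := GenusZeroLib.kmod k B
  let T : Γ(A, ⊤) ≃ₗ[k] Γ(B, ⊤) :=
    { toFun := fun s => e.hom.app ⊤ s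
      map_add' := map_add (e.hom.app ⊤).hom
      map_smul' := fun c s => e.hom.app_smul (GenusZeroLib.ρ k c) s
      invFun := fun s => e.inv.app ⊤ s
      left_inv := fun s => by dsimp only; rw [← ConcreteCategory.comp_apply, ← Scheme.Modules.Hom.comp_app, e.hom_inv_id]; rfl
      right_inv := fun s => by dsimp only; rw [← ConcreteCategory.comp_apply, ← Scheme.Modules.Hom.comp_app, e.inv_hom_id]; rfl }
  rw [(GenusZeroLib.e0k k A).finrank_eq, (GenusZeroLib.e0k k B).finrank_eq]
  exact T.finrank_eq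

end RFormLib
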