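import Mathlib.RingTheory.Derivation.Basic
import Mathlib.RingTheory.Localization.Basic
import Mathlib.Algebra.TrivSqZeroExt.Basic
import Mathlib.Algebra.Polynomial.Eval.Degree
import Mathlib.Algebra.Polynomial.AlgebraMap
import Mathlib.Algebra.Polynomial.Reverse
import Mathlib.RingTheory.Polynomial.Tower
import Mathlib.RingTheory.Localization.FractionRing

/-!
# Derivations of localizations
-/

set_option autoImplicit false

open Polynomial TrivSqZeroExt

noncomputable section

namespace RFormLib

/-- A ring homomorphism to the dual numbers lifting the structure map gives a derivation. -/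
theorem exists_derivation_of_lift {k A S : Type*} [CommRing k] [CommRing A] [CommRing S] [Algebra A S]
    [Algebra k S] (M : Submonoid A) [IsLocalization M S] (ψ : A →+* TrivSqZeroExt S S)
    (hfst : ∀ a, (ψ a).fst = algebraMap A S a) (j : k →+* A) (hj : ∀ c, algebraMap A S (j c) = algebraMap k S c)
    (hjsnd : ∀ c, (ψ (j c)).snd = 0) :
    ∃ D : Derivation k S S, ∀ a, D (algebraMap A S a) = (ψ a).snd := by
  have hu : ∀ y : M, IsUnit (ψ y) := fun y => isUnit_iff_isUnit_fst.mpr (by
    rw [hfst]; exact IsLocalization.map_units S y)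
  let Ψ : S →+* TrivSqZeroExt S S := IsLocalization.lift (M := M) hu
  have hΨ : ∀ a, Ψ (algebraMap A S a) = ψ a := fun a => IsLocalization.lift_eq _ a
  have hid : ∀ s, (Ψ s).fst = s := fun s => by
    have : ((fstHom S S S).toRingHom.comp Ψ) = RingHom.id S :=
      IsLocalization.ringHom_ext M (RingHom.ext fun a => by simp [hΨ, hfst])
    exact RingHom.congr_fun this s
  refine ⟨Derivation.mk'
    { toFun := fun s => (Ψ s).snd
      map_add' := fun a b => by simp
      map_smul' := fun c s => ?_ } (fun a b => ?_), fun a => ?_⟩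
  · simp only [RingHom.id_apply, Algebra.smul_def, map_mul, snd_mul, hid]
    have : (Ψ (algebraMap k S c)).snd = 0 := by rw [← hj, hΨ, hjsnd]
    simp [this, hid]
  · simp [snd_mul, hid, smul_eq_mul, mul_comm]
  · exact congrArg TrivSqZeroExt.snd (hΨ a)

/-- A derivation with prescribed values on coefficients and on the variable. -/
theorem exists_derivation_poly {k K S : Type*} [CommRing k] [CommRing K] [Algebra k K] [CommRing S]
    [Algebra k S] [Algebra K[X] S] (M : Submonoid K[X]) [IsLocalization M S]
    (hk : ∀ c : k, algebraMap K[X] S (C (algebraMap k K c)) = algebraMap k S c)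
    (D : Derivation k K K) (e : S) :
    ∃ D' : Derivation k S S, (∀ a : K, D' (algebraMap K[X] S (C a)) = algebraMap K[X] S (C (D a))) ∧
      D' (algebraMap K[X] S X) = e := by
  let ι : K →+* S := (algebraMap K[X] S).comp C
  let g : K →+* TrivSqZeroExt S S :=
    { toFun := fun a => ⟨ι a, ι (D a)⟩
      map_one' := TrivSqZeroExt.ext (by simp [fst_one]) (by simp [snd_one])
      map_zero' := TrivSqZeroExt.ext (map_zero ι) (by simp)
      map_add' := fun a b => TrivSqZeroExt.ext (map_add ι a b) (by simp [snd_add])
      map_mul' := fun a b => TrivSqZeroExt.ext (map_mul ι a b) (by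
        simp [snd_mul, smul_eq_mul]
        ring!) }
  let ψ : K[X] →+* TrivSqZeroExt S S := eval₂RingHom g ⟨algebraMap K[X] S X, e⟩
  have hfst : ∀ p, (ψ p).fst = algebraMap K[X] S p := fun p => by
    have : (fstHom S S S).toRingHom.comp ψ = algebraMap K[X] S :=
      Polynomial.ringHom_ext (fun a => by simp [ψ, g, ι]) (by simp [ψ])
    exact RingHom.congr_fun this p
  obtain ⟨D', hD'⟩ := exists_derivation_of_lift M ψ hfst (C.comp (algebraMap k K)) hk (fun c => by
    simp [ψ, g, TrivSqZeroExt.snd, ι])
  exact ⟨D', fun a => (hD' _).trans (by simp [ψ, g, ι, TrivSqZeroExt.snd]), (hD' _).trans (by simp [ψ, TrivSqZeroExt.snd])⟩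

/-- Compatibility of derivations is checked on generators of a localization. -/
theorem derivation_compat {A S T : Type*} [CommRing A] [CommRing S] [CommRing T] [Algebra A S]
    (M : Submonoid A) [IsLocalization M S] (ψ : S →+* T) (D : S → S) (D' : T → T)
    (hD : ∀ a b, D (a * b) = a * D b + b * D a) (hD' : ∀ a b, D' (a * b) = a * D' b + b * D' a)
    (h : ∀ a, ψ (D (algebraMap A S a)) = D' (ψ (algebraMap A S a))) (s : S) : ψ (D s) = D' (ψ s) := by
  obtain ⟨⟨a, y⟩, hy⟩ := IsLocalization.surj M s
  have h1 := h a
  rw [← hy, hD, map_add, map_mul, map_mul, map_mul, hD', h] at h1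
  exact ((IsLocalization.map_units S y).map ψ).mul_left_cancel (add_left_cancel h1)

/-- Two derivations compatible on coefficients and the variable are compatible on polynomials. -/
theorem derivation_compat_poly {k K S T : Type*} [CommRing k] [CommRing K] [CommRing S] [CommRing T]
    [Algebra k S] [Algebra k T] (j : K[X] →+* S) (ψ : S →+* T) (D : Derivation k S S) (D' : Derivation k T T)
    (hC : ∀ a, ψ (D (j (C a))) = D' (ψ (j (C a)))) (hX : ψ (D (j X)) = D' (ψ (j X))) (p : K[X]) :
    ψ (D (j p)) = D' (ψ (j p)) := by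
  induction p using Polynomial.induction_on with
  | C a => exact hC a
  | add p q hp hq => simp [map_add, hp, hq]
  | monomial n a h =>
    rw [pow_succ, ← mul_assoc]
    simp only [map_mul, Derivation.leibniz, smul_eq_mul, map_add] at h ⊢
    simp only [h, hX, map_mul]

/-- A polynomial in `t` which is regular at infinity is constant. -/
theorem eq_C_of_regular_infinity {K F : Type*} [Field K] [Field F] [Algebra K[X] F]
    (hinj : Function.Injective (algebraMap K[X] F)) (p q r : K[X]) (hr : r.coeff 0 ≠ 0)
    (h : algebraMap K[X] F p * Polynomial.eval₂ ((algebraMap K[X] F).comp C) (algebraMap K[X] F X)⁻¹ r =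
      Polynomial.eval₂ ((algebraMap K[X] F).comp C) (algebraMap K[X] F X)⁻¹ q) :
    ∃ c, p = C c := by
  set t := algebraMap K[X] F X with ht
  have ht0 : t ≠ 0 := (map_ne_zero_iff _ hinj).mpr X_ne_zero
  have hrev : ∀ (s : K[X]) (N : ℕ), s.natDegree ≤ N →
      algebraMap K[X] F (s.reflect N) = t ^ N * eval₂ ((algebraMap K[X] F).comp C) t⁻¹ s := by
    intro s N hs
    rw [eval₂_eq_sum_range' _ (Nat.lt_succ_of_le hs), Finset.mul_sum]
    conv_lhs => rw [(s.reflect N).as_sum_range' (N + 1) (Nat.lt_succ_of_le (by
      exact natDegree_reflect_le.trans (max_le le_rfl hs)))]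
    rw [map_sum, ← Finset.sum_range_reflect]
    refine Finset.sum_congr rfl fun i hi => ?_
    have hi' : i ≤ N := Nat.lt_succ_iff.mp (Finset.mem_range.mp hi)
    have e : N + 1 - 1 - i = N - i := by omega
    rw [e, coeff_reflect, revAt_le (Nat.sub_le _ _), Nat.sub_sub_self hi', ← C_mul_X_pow_eq_monomial, map_mul, map_pow,
      RingHom.comp_apply, mul_left_comm]
    congr 1
    rw [inv_pow, ← div_eq_mul_inv, ← ht, eq_div_iff (pow_ne_zero _ ht0), ← pow_add, Nat.sub_add_cancel hi']
  set N := max r.natDegree q.natDegree
  have hN := hrev r N (le_max_left _ _)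
  have hN' := hrev q N (le_max_right _ _)
  have h2 : p * r.reflect N = q.reflect N := hinj (by rw [map_mul, hN, hN', ← h]; ring)
  rcases eq_or_ne p 0 with rfl | hp
  · exact ⟨0, by simp⟩
  have hr0 : r.reflect N ≠ 0 := fun h0 => hr (by
    have := congrArg (fun s => coeff s N) h0
    simpa [coeff_reflect] using this)
  have hrd : (r.reflect N).natDegree = N := le_antisymm (natDegree_reflect_le.trans (max_le le_rfl (le_max_left _ _)))
    (le_natDegree_of_ne_zero (by simpa [coeff_reflect] using hr))
  have hd := congrArg natDegree h2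
  rw [natDegree_mul hp hr0, hrd] at hd
  have : (q.reflect N).natDegree ≤ N := natDegree_reflect_le.trans (max_le le_rfl (le_max_right _ _))
  exact ⟨_, eq_C_of_natDegree_eq_zero (by omega)⟩

end RFormLib

end
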