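import Groth.Agent.WedgeLib.FiltTools
import Groth.Agent.ExtPowLib.Sheaf
import Groth.Agent.OmegaAffLib.General
import Groth.Agent.OmegaAffLib.Universal
import Groth.Agent.Formal2VBLib.Dual
import Groth.Agent.SmDefLib.Van
import Mathlib.LinearAlgebra.Matrix.Determinant.Basic

/-!
# Evaluation of tensor forms on derivations
-/

set_option autoImplicit false
set_option linter.style.haveILetI false
set_option linter.unusedSectionVars false
set_option backward.isDefEq.respectTransparency false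
set_option backward.isDefEq.respectTransparency.types false
set_option maxHeartbeats 1000000
universe u

open CategoryTheory CategoryTheory.Limits AlgebraicGeometry Opposite TopologicalSpace
open AmpleLib (res shT)
open ProjFormLib (IsFrame)
open scoped TensorProduct

noncomputable section

namespace RFormLib

variable {k : Type u} [Field k] {X : Scheme.{u}} (f : X ⟶ Spec (CommRingCat.of k))

/-- Constants on an open. -/
def sig (V : X.Opens) : k →+* Γ(X, V) :=
  (f.appLE ⊤ V le_top).hom.comp (Scheme.ΓSpecIso (CommRingCat.of k)).inv.hom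

theorem sig_res {V W : X.Opens} (h : W ≤ V) (c : k) :
    X.presheaf.map (homOfLE h).op (sig f V c) = sig f W c :=
  ConcreteCategory.congr_hom (Scheme.Hom.appLE_map f le_top (homOfLE h).op) _

variable {R : Type u} [CommRing R] [Algebra k R]

section Omega

variable [QuasiSeparated f] {V : X.Opens} (φ : Γ(X, V) →+* R)

theorem exists_ell (hV : IsAffineOpen V) (hφ : ∀ c, φ (sig f V c) = algebraMap k R c) (D : Derivation k R R) :
    ∃ ℓ : Γ(Omega.sheaf f, V) →ₛₗ[φ] R, ∀ b, ℓ (OmegaSh.dSect f V b) = D (φ b) := by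
  obtain ⟨e, he⟩ := OmegaAffLib.exists_equiv (OmegaAffLib.isUniversal_dOmega (f := f))
    (isAffineOpen_top _) hV (le_top : V ≤ f ⁻¹ᵁ ⊤)
  letI alg := (f.appLE ⊤ V le_top).hom.toAlgebra
  letI : Algebra Γ(X, V) R := φ.toAlgebra
  letI : Algebra Γ(Spec (CommRingCat.of k), ⊤) R := (φ.comp (algebraMap Γ(Spec (CommRingCat.of k), ⊤) Γ(X, V))).toAlgebra
  haveI : IsScalarTower Γ(Spec (CommRingCat.of k), ⊤) Γ(X, V) R := IsScalarTower.of_algebraMap_eq fun _ => rfl
  have hc : ∀ c, D (algebraMap Γ(Spec (CommRingCat.of k), ⊤) R c) = 0 := fun c => by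
    have : φ (algebraMap Γ(Spec (CommRingCat.of k), ⊤) Γ(X, V) c) =
        algebraMap k R ((Scheme.ΓSpecIso (CommRingCat.of k)).hom c) := by
      rw [← hφ]
      refine congrArg φ ?_
      show f.appLE ⊤ V _ c = f.appLE ⊤ V le_top _
      exact congrArg _ (ConcreteCategory.congr_hom (Scheme.ΓSpecIso (CommRingCat.of k)).hom_inv_id c).symm
    show D (φ _) = 0
    rw [this, Derivation.map_algebraMap]
  let δ : Derivation Γ(Spec (CommRingCat.of k), ⊤) Γ(X, V) R := Derivation.mk'
    { toFun := fun b => D (φ b)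
      map_add' := fun a b => by simp
      map_smul' := fun c b => by
        simp only [RingHom.id_apply, Algebra.smul_def, map_mul, Derivation.leibniz, smul_eq_mul]
        have := hc c
        change φ _ * D (φ b) + φ b * D (φ _) = _
        change D (φ _) = 0 at this
        rw [this, mul_zero, add_zero]
        rfl }
    (fun a b => by
      show D (φ (a * b)) = _
      rw [map_mul, Derivation.leibniz]
      rfl)
  refine ⟨{ toFun := fun w => δ.liftKaehlerDifferential (e.symm w)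
            map_add' := fun a b => by simp
            map_smul' := fun a w => by rw [map_smul, map_smul]; rfl }, fun b => ?_⟩
  show δ.liftKaehlerDifferential (e.symm _) = _
  rw [show OmegaSh.dSect f V b = e (KaehlerDifferential.D _ _ b) from (he b).symm, LinearEquiv.symm_apply_apply,
    Derivation.liftKaehlerDifferential_comp_D]
  rfl

theorem ell_ext (hV : IsAffineOpen V) (ℓ ℓ' : Γ(Omega.sheaf f, V) →ₛₗ[φ] R)
    (h : ∀ b, ℓ (OmegaSh.dSect f V b) = ℓ' (OmegaSh.dSect f V b)) (w : Γ(Omega.sheaf f, V)) : ℓ w = ℓ' w := by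
  have hw : w ∈ Submodule.span Γ(X, V) (Set.range (OmegaSh.dSect f V)) := by
    rw [OmegaAffLib.span_dSect (f := f) ⟨hV, ⊤, isAffineOpen_top _, le_top⟩]; trivial
  exact LinearMap.eqOn_span (Set.forall_mem_range.mpr h) hw

/-- The value of a form on a derivation. -/
def ell (hV : IsAffineOpen V) (hφ : ∀ c, φ (sig f V c) = algebraMap k R c) (D : Derivation k R R) :
    Γ(Omega.sheaf f, V) →ₛₗ[φ] R := (exists_ell f φ hV hφ D).choose

theorem ell_d (hV : IsAffineOpen V) (hφ : ∀ c, φ (sig f V c) = algebraMap k R c) (D : Derivation k R R) (b : Γ(X, V)) :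
    ell f φ hV hφ D (OmegaSh.dSect f V b) = D (φ b) := (exists_ell f φ hV hφ D).choose_spec b

theorem ell_comp {R' : Type u} [CommRing R'] [Algebra k R'] {W : X.Opens} (h : W ≤ V) (φ' : Γ(X, W) →+* R')
    (ψ : R →+* R') (hc : ∀ a, φ' (X.presheaf.map (homOfLE h).op a) = ψ (φ a))
    (hV : IsAffineOpen V) (hW : IsAffineOpen W) (hφ : ∀ c, φ (sig f V c) = algebraMap k R c)
    (hφ' : ∀ c, φ' (sig f W c) = algebraMap k R' c) (D : Derivation k R R) (D' : Derivation k R' R')
    (hD : ∀ r, ψ (D r) = D' (ψ r)) (w : Γ(Omega.sheaf f, V)) :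
    ψ (ell f φ hV hφ D w) = ell f φ' hW hφ' D' (res (Omega.sheaf f) h w) := by
  have hw : w ∈ Submodule.span Γ(X, V) (Set.range (OmegaSh.dSect f V)) := by
    rw [OmegaAffLib.span_dSect (f := f) ⟨hV, ⊤, isAffineOpen_top _, le_top⟩]; trivial
  induction hw using Submodule.span_induction with
  | mem y hy =>
    obtain ⟨b, rfl⟩ := hy
    rw [ell_d, show res (Omega.sheaf f) h (OmegaSh.dSect f V b) = OmegaSh.dSect f W (X.presheaf.map (homOfLE h).op b) from
      (OmegaSh.dSect_map f h b).symm, ell_d, hc, hD]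
  | zero => simp only [map_zero, res]
  | add y z _ _ hy hz => simp only [map_add, res] at *; rw [hy, hz]
  | smul a y _ hy =>
    rw [AmpleLib.res_smul, LinearMap.map_smulₛₗ, LinearMap.map_smulₛₗ, smul_eq_mul, smul_eq_mul, map_mul, hy]
    exact congrArg (· * _) (hc a).symm

end Omega

section Ext

variable {V : X.Opens} (φ : Γ(X, V) →+* R) {i : ℕ}

theorem exists_det {E : X.Modules} (ℓ : Fin i → (E.val.obj (op V) →ₛₗ[φ] R)) :
    ∃ d : ↥(⋀[Γ(X, V)]^i (E.val.obj (op V))) →ₛₗ[φ] R,
      ∀ e, d (exteriorPower.ιMulti _ i e) = Matrix.det (Matrix.of fun l r => ℓ r (e l)) := by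
  letI : Algebra Γ(X, V) R := φ.toAlgebra
  let L : E.val.obj (op V) →ₗ[Γ(X, V)] (Fin i → R) := LinearMap.pi fun r =>
    { toFun := ℓ r
      map_add' := map_add _
      map_smul' := fun a x => (LinearMap.map_smulₛₗ (ℓ r) a x).trans rfl }
  let dA : (Fin i → R) [⋀^Fin i]→ₗ[Γ(X, V)] R :=
    { (Matrix.detRowAlternating : (Fin i → R) [⋀^Fin i]→ₗ[R] R).toMultilinearMap.restrictScalars Γ(X, V) with
      map_eq_zero_of_eq' := fun v a b hab hne =>
        (Matrix.detRowAlternating : (Fin i → R) [⋀^Fin i]→ₗ[R] R).map_eq_zero_of_eq v hab hne }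
  let d := exteriorPower.alternatingMapLinearEquiv (dA.compLinearMap L)
  refine ⟨{ toFun := d, map_add' := map_add d, map_smul' := fun a x => (d.map_smul a x).trans rfl }, fun e => ?_⟩
  exact exteriorPower.alternatingMapLinearEquiv_apply_ιMulti _ e

theorem exists_step {M N : X.Modules} {a c : ℕ} {U : X.Opens} {e : Fin a → Γ(M, U)} {d : Fin c → Γ(N, U)}
    (he : IsFrame M e) (hd : IsFrame N d) (hVU : V ≤ U) (E : Γ(M, V) →ₛₗ[φ] R) (G : Γ(N, V) →ₛₗ[φ] R) :
    ∃ E' : Γ(CohB1.tensorMod M N, V) →ₛₗ[φ] R, ∀ x y, E' (shT x y) = E x * G y := by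
  letI : Algebra Γ(X, V) R := φ.toAlgebra
  let El : Γ(M, V) →ₗ[Γ(X, V)] R := { toFun := E, map_add' := map_add _, map_smul' := fun a x => (LinearMap.map_smulₛₗ E a x).trans rfl }
  let Gl : Γ(N, V) →ₗ[Γ(X, V)] R := { toFun := G, map_add' := map_add _, map_smul' := fun a x => (LinearMap.map_smulₛₗ G a x).trans rfl }
  let B : Γ(M, V) ⊗[Γ(X, V)] Γ(N, V) →ₗ[Γ(X, V)] R := TensorProduct.lift ((LinearMap.mul Γ(X, V) R).compl₁₂ El Gl)
  let T := LinearEquiv.ofBijective _ (WedgeLib.lift_shT_bijective he hd hVU)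
  refine ⟨{ toFun := fun z => B (T.symm z), map_add' := fun x y => by simp,
            map_smul' := fun a x => (congrArg B (T.symm.map_smul a x)).trans ((B.map_smul a _).trans rfl) }, fun x y => ?_⟩
  show B (T.symm (shT x y)) = _
  rw [show shT x y = T (x ⊗ₜ y) from rfl, LinearEquiv.symm_apply_apply]
  rfl

end Ext

section Eval

variable [QuasiSeparated f] {i : ℕ} {L : X.Modules} (hL : ExtPow.IsExtPow i (Omega.sheaf f) L)

/-- An affine open over which `L` is trivialised. -/
structure Nice (L : X.Modules) (V : X.Opens) : Prop where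
  affine : IsAffineOpen V
  frames : ∀ m, ∃ (a : ℕ) (e : Fin a → Γ(CohB1.tensorPow L m, V)), IsFrame (CohB1.tensorPow L m) e
  frame : ∃ (a : ℕ) (e : Fin a → Γ(L, V)), IsFrame L e

theorem nice_of_frame {L : X.Modules} {U V : X.Opens} {a : ℕ} {e : Fin a → Γ(L, U)} (he : IsFrame L e)
    (hVU : V ≤ U) (hV : IsAffineOpen V) : Nice L V := by
  refine ⟨hV, fun m => ?_, ⟨a, _, he.res hVU⟩⟩
  induction m with
  | zero => exact ⟨1, _, (Formal2VBLib.isFrame_oneS X).res (le_top : V ≤ ⊤)⟩
  | succ m ih =>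
    obtain ⟨b, g, hg⟩ := ih
    exact ⟨_, _, WedgeLib.isFrame_shT hg (he.res hVU)⟩

theorem exists_nice (hf : Smooth f) (hL' : ExtPow.IsExtPow i (Omega.sheaf f) L) {W : X.Opens} {x : X} (hx : x ∈ W) :
    ∃ V : X.Opens, Nice L V ∧ x ∈ V ∧ V ≤ W := by
  haveI := hf
  obtain ⟨U, a, e, hxU, he⟩ := ProjFormLib.exists_frame (ExtPowLib.isFinLocFree (SmDefLib.isFinLocFree_omega f) hL') x
  obtain ⟨V, hV, hxV, hle⟩ := exists_isAffineOpen_mem_and_subset (show x ∈ W ⊓ U from ⟨hx, hxU⟩)
  exact ⟨V, nice_of_frame he (hle.trans inf_le_right) hV, hxV, hle.trans inf_le_left⟩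

variable {V : X.Opens} (φ : Γ(X, V) →+* R)

/-- The value of a section of `L`. -/
def lam (hV : IsAffineOpen V) (hφ : ∀ c, φ (sig f V c) = algebraMap k R c) (D : Fin i → Derivation k R R) :
    Γ(L, V) →ₛₗ[φ] R :=
  (exists_det φ fun r => ell f φ hV hφ (D r)).choose.comp
    (hL.choose ⟨V, hV⟩ : L.val.obj (op V) ≃ₗ[Γ(X, V)] _).toLinearMap

theorem lam_ι (hV : IsAffineOpen V) (hφ : ∀ c, φ (sig f V c) = algebraMap k R c) (D : Fin i → Derivation k R R)
    (e : Fin i → (Omega.sheaf f).val.obj (op V)) :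
    lam f hL φ hV hφ D ((hL.choose ⟨V, hV⟩).symm (exteriorPower.ιMulti _ i e)) =
      Matrix.det (Matrix.of fun l r => ell f φ hV hφ (D r) (e l)) := by
  show Classical.choose (exists_det φ fun r => ell f φ hV hφ (D r)) ((hL.choose ⟨V, hV⟩) _) = _
  rw [LinearEquiv.apply_symm_apply]
  exact (exists_det φ fun r => ell f φ hV hφ (D r)).choose_spec e

/-- The value of a section of a tensor power of `L`. -/
def ev (hV : Nice L V) (hφ : ∀ c, φ (sig f V c) = algebraMap k R c) :
    ∀ m, (Fin m → Fin i → Derivation k R R) → (Γ(CohB1.tensorPow L m, V) →ₛₗ[φ] R)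
  | 0 => fun _ => { toFun := fun z => φ z, map_add' := map_add φ, map_smul' := fun a z => map_mul φ a z }
  | m + 1 => fun D =>
    (exists_step φ (hV.frames m).choose_spec.choose_spec hV.frame.choose_spec.choose_spec le_rfl
      (ev hV hφ m (Fin.init D)) (lam f hL φ hV.affine hφ (D (Fin.last m)))).choose

theorem ev_shT (hV : Nice L V) (hφ : ∀ c, φ (sig f V c) = algebraMap k R c) (m : ℕ)
    (D : Fin (m + 1) → Fin i → Derivation k R R) (x : Γ(CohB1.tensorPow L m, V)) (y : Γ(L, V)) :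
    ev f hL φ hV hφ (m + 1) D (shT x y) =
      ev f hL φ hV hφ m (Fin.init D) x * lam f hL φ hV.affine hφ (D (Fin.last m)) y :=
  (exists_step φ (hV.frames m).choose_spec.choose_spec hV.frame.choose_spec.choose_spec le_rfl
    (ev f hL φ hV hφ m (Fin.init D)) (lam f hL φ hV.affine hφ (D (Fin.last m)))).choose_spec x y

theorem lam_comp {R' : Type u} [CommRing R'] [Algebra k R'] {W : X.Opens} (h : W ≤ V) (φ' : Γ(X, W) →+* R')
    (ψ : R →+* R') (hc : ∀ a, φ' (X.presheaf.map (homOfLE h).op a) = ψ (φ a))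
    (hV : IsAffineOpen V) (hW : IsAffineOpen W) (hφ : ∀ c, φ (sig f V c) = algebraMap k R c)
    (hφ' : ∀ c, φ' (sig f W c) = algebraMap k R' c) (D : Fin i → Derivation k R R)
    (D' : Fin i → Derivation k R' R') (hD : ∀ r s, ψ (D r s) = D' r (ψ s)) (y : Γ(L, V)) :
    ψ (lam f hL φ hV hφ D y) = lam f hL φ' hW hφ' D' (res L h y) := by
  obtain ⟨z, rfl⟩ := (hL.choose ⟨V, hV⟩).symm.surjective y
  have hz : z ∈ Submodule.span Γ(X, V) (Set.range (exteriorPower.ιMulti Γ(X, V) i
      (M := (Omega.sheaf f).val.obj (op V)))) := by rw [exteriorPower.ιMulti_span]; trivial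
  induction hz using Submodule.span_induction with
  | mem y hy =>
    obtain ⟨e, rfl⟩ := hy
    have h2 : res L h ((hL.choose ⟨V, hV⟩).symm (exteriorPower.ιMulti _ i e)) = _ := hL.choose_spec ⟨V, hV⟩ ⟨W, hW⟩ h e
    rw [h2, lam_ι, lam_ι, RingHom.map_det]
    congr 1
    ext l r
    exact ell_comp f φ h φ' ψ hc hV hW hφ hφ' (D r) (D' r) (hD r) (e l)
  | zero => simp only [map_zero, res]
  | add y z _ _ hy hz => simp only [map_add, res] at *; rw [hy, hz]
  | smul a y _ hy =>
    rw [map_smul, AmpleLib.res_smul, LinearMap.map_smulₛₗ, LinearMap.map_smulₛₗ, smul_eq_mul, smul_eq_mul, map_mul]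
    exact congr_arg₂ (· * ·) (hc a).symm hy

theorem ev_comp {R' : Type u} [CommRing R'] [Algebra k R'] {W : X.Opens} (h : W ≤ V) (φ' : Γ(X, W) →+* R')
    (ψ : R →+* R') (hc : ∀ a, φ' (X.presheaf.map (homOfLE h).op a) = ψ (φ a))
    (hV : Nice L V) (hW : Nice L W) (hφ : ∀ c, φ (sig f V c) = algebraMap k R c)
    (hφ' : ∀ c, φ' (sig f W c) = algebraMap k R' c) (m : ℕ) (D : Fin m → Fin i → Derivation k R R)
    (D' : Fin m → Fin i → Derivation k R' R') (hD : ∀ j r s, ψ (D j r s) = D' j r (ψ s))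
    (z : Γ(CohB1.tensorPow L m, V)) :
    ψ (ev f hL φ hV hφ m D z) = ev f hL φ' hW hφ' m D' (res (CohB1.tensorPow L m) h z) := by
  induction m with
  | zero => exact (hc z).symm
  | succ m ih =>
    obtain ⟨t, rfl⟩ := (WedgeLib.lift_shT_bijective (hV.frames m).choose_spec.choose_spec
      hV.frame.choose_spec.choose_spec (le_rfl : V ≤ V)).2 z
    induction t with
    | zero => simp only [map_zero, res]
    | tmul x y =>
      rw [TensorProduct.lift.tmul]
      show ψ (ev f hL φ hV hφ (m + 1) D (shT x y)) =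
        ev f hL φ' hW hφ' (m + 1) D' (res (CohB1.tensorMod (CohB1.tensorPow L m) L) h (shT x y))
      rw [AmpleLib.shT_res, ev_shT, ev_shT, map_mul, ih (Fin.init D) (Fin.init D') (fun j => hD _) x,
        lam_comp f hL φ h φ' ψ hc hV.affine hW.affine hφ hφ' (D (Fin.last m)) (D' (Fin.last m)) (hD _) y]
    | add s t hs ht =>
      rw [map_add]
      exact (congrArg ψ (map_add (ev f hL φ hV hφ (m + 1) D) _ _)).trans ((map_add ψ _ _).trans
        ((congr_arg₂ (· + ·) hs ht).trans ((map_add (ev f hL φ' hW hφ' (m + 1) D') _ _).symm.trans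
          (congrArg _ (map_add ((CohB1.tensorPow L (m + 1)).presheaf.map (homOfLE h).op).hom _ _).symm))))

end Eval

end RFormLib

end
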