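import Groth.Agent.RFormLib.Val
import Groth.Agent.RFormLib.P1

/-!
# Values of tensor forms are invariant under R-equivalence
-/

set_option autoImplicit false
set_option linter.style.haveILetI false
set_option linter.unusedSectionVars false
set_option backward.isDefEq.respectTransparency false
set_option backward.isDefEq.respectTransparency.types false
set_option maxHeartbeats 1000000
universe u

open CategoryTheory CategoryTheory.Limits AlgebraicGeometry Opposite TopologicalSpace
open Polynomial (C)

noncomputable section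

namespace RFormLib

variable {k : Type u} [Field k] {X : Scheme.{u}} (f : X ⟶ Spec (CommRingCat.of k)) [QuasiSeparated f] [Smooth f]
  {i m : ℕ} {L : X.Modules} (hL : ExtPow.IsExtPow i (Omega.sheaf f) L)
  (s : Γ(CohB1.tensorPow L m, ⊤)) {K : Type u} [Field K] [Algebra k K]

theorem algebraMap_C (c : k) :
    algebraMap k (Polynomial K) c = C (algebraMap k K c) := rfl

theorem jmap_k (j : Fin 2) (c : k) :
    jmap K j (C (algebraMap k K c)) = algebraMap k (FractionRing (Polynomial K)) c := by
  rw [jmap, Polynomial.coe_eval₂RingHom, Polynomial.eval₂_C, RingHom.comp_apply,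
    IsScalarTower.algebraMap_apply k (Polynomial K) (FractionRing (Polynomial K))]
  rfl

theorem over_of_alg {R : Type u} [CommRing R] [Algebra k R] (ρ : Polynomial K →+* R)
    (hρ : ∀ c : k, ρ (C (algebraMap k K c)) = algebraMap k R c)
    (j : Fin 2) (G : REq.P1K K ⟶ X) (hG : G ≫ f = REq.P1K.toSpec K ≫ REq.specMap k K) :
    (Spec.map (CommRingCat.ofHom ρ) ≫ chart K j ≫ G) ≫ f = Spec.map (CommRingCat.ofHom (algebraMap k R)) := by
  rw [Category.assoc, Category.assoc, hG, ← Category.assoc (chart K j), chart_toSpec, ← Spec.map_comp, ← Spec.map_comp]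
  congr 1
  exact CommRingCat.hom_ext (RingHom.ext hρ)

/-- The coordinate vector field with value `e`, in the chart `l`, seen in the chart `j`. -/
def vec (l j : Fin 2) (e : K) : Polynomial K := if j = l then C e else - C e * Polynomial.X ^ 2

theorem exists_const (G : REq.P1K K ⟶ X) (hG : G ≫ f = REq.P1K.toSpec K ≫ REq.specMap k K)
    (D : Fin m → Fin i → Derivation k K K) (l : Fin 2) (α : K) :
    ∃ c : K, HasVal f hL s (Spec.map (CommRingCat.ofHom (Polynomial.evalRingHom α)) ≫ chart K l ≫ G) D c ∧
      ∀ l', l' ≠ l →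
        HasVal f hL s (Spec.map (CommRingCat.ofHom (Polynomial.evalRingHom 0)) ≫ chart K l' ≫ G) D c := by
  classical
  set F := FractionRing (Polynomial K)
  have hCF : ∀ a, algebraMap (Polynomial K) F (C a) = jmap K 0 (C a) := fun a => by rw [jmap_zero]
  have hu : ∀ j a, jmap K j (C a) = algebraMap (Polynomial K) F (C a) := fun j a => by
    simp [jmap, F]
  -- derivations on the function field
  have hDF : ∀ (n : Fin m) (r : Fin i), ∃ E : Derivation k F F,
      (∀ a, E (algebraMap (Polynomial K) F (C a)) = algebraMap (Polynomial K) F (C (D n r a))) ∧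
      E (algebraMap (Polynomial K) F Polynomial.X) = jmap K 0 (vec l 0 (D n r α)) := fun n r =>
    exists_derivation_poly (nonZeroDivisors (Polynomial K)) (fun c => (hu 0 _).symm.trans (jmap_k 0 c)) (D n r) _
  choose E hEC hEX using hDF
  have hEu : ∀ n r j, E n r (jmap K j Polynomial.X) = jmap K j (vec l j (D n r α)) := by
    intro n r j
    have ht : jmap K 0 Polynomial.X = tF K := by rw [jmap_zero]; rfl
    have h1 : jmap K 1 Polynomial.X = (tF K)⁻¹ := by simp [jmap, uF]
    have hE0 : E n r (tF K) = jmap K 0 (vec l 0 (D n r α)) := hEX n r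
    fin_cases j
    · rw [show jmap K (⟨0, by omega⟩ : Fin 2) Polynomial.X = tF K from ht]
      exact hE0
    · rw [show jmap K (⟨1, by omega⟩ : Fin 2) Polynomial.X = (tF K)⁻¹ from h1, Derivation.leibniz_inv, hE0]
      fin_cases l <;> simp only [vec, Fin.isValue, Fin.mk_one, Fin.zero_eta, one_ne_zero, zero_ne_one, if_true, if_false,
        map_mul, map_neg, map_pow, hu, ht, h1, smul_eq_mul]
      · ring
      · rw [neg_mul, neg_mul, mul_neg, neg_neg, mul_left_comm, ← mul_pow, inv_mul_cancel₀ (tF_ne_zero K), one_pow, mul_one]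
  -- the value at the generic point
  let gF : ∀ j, Spec (CommRingCat.of F) ⟶ X := fun j => Spec.map (CommRingCat.ofHom (jmap K j)) ≫ chart K j ≫ G
  have hgF : ∀ j, gF j = gF 0 := fun j => by
    fin_cases j
    · rfl
    · show Spec.map _ ≫ chart K 1 ≫ G = Spec.map _ ≫ chart K 0 ≫ G
      rw [← Category.assoc, ← Category.assoc, chart_generic]; rfl
  obtain ⟨v, hv⟩ := exists_hasVal f hL s (gF 0) (over_of_alg f (jmap K 0) (jmap_k 0) 0 G hG) E
  -- regularity at a prime of a chart
  have hloc : ∀ (j : Fin 2) (p : Ideal (Polynomial K)) [p.IsPrime],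
      ∃ (w : Localization.AtPrime p) (Ψ : Localization.AtPrime p →+* F),
        Ψ.comp (algebraMap (Polynomial K) (Localization.AtPrime p)) = jmap K j ∧ Ψ w = v ∧ Function.Injective Ψ ∧
        ∀ (β : K) (hβ : ∀ y ∈ p.primeCompl, Polynomial.eval β y ≠ 0)
          (hvec : ∀ n r, D n r β = Polynomial.eval β (vec l j (D n r α))),
          ∃ ev : Localization.AtPrime p →+* K, ev.comp (algebraMap (Polynomial K) (Localization.AtPrime p)) = Polynomial.evalRingHom β ∧
            HasVal f hL s (Spec.map (CommRingCat.ofHom (Polynomial.evalRingHom β)) ≫ chart K j ≫ G) D (ev w) := by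
    intro j p _
    set S := Localization.AtPrime p
    have hkS : ∀ c : k, algebraMap (Polynomial K) S (C (algebraMap k K c)) = algebraMap k S c := fun c =>
      (IsScalarTower.algebraMap_apply k (Polynomial K) S c).symm
    have hDS : ∀ (n : Fin m) (r : Fin i), ∃ E' : Derivation k S S,
        (∀ a, E' (algebraMap (Polynomial K) S (C a)) = algebraMap (Polynomial K) S (C (D n r a))) ∧
        E' (algebraMap (Polynomial K) S Polynomial.X) = algebraMap (Polynomial K) S (vec l j (D n r α)) := fun n r =>
      exists_derivation_poly p.primeCompl hkS (D n r) _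
    choose E' hE'C hE'X using hDS
    have hunit : ∀ y : p.primeCompl, IsUnit (jmap K j y) := fun y => by
      refine ((map_ne_zero_iff _ (jmap_injective K j)).mpr fun h => y.2 ?_).isUnit
      rw [h]; exact zero_mem p
    let Ψ : S →+* F := IsLocalization.lift (M := p.primeCompl) hunit
    have hΨ : ∀ x, Ψ (algebraMap (Polynomial K) S x) = jmap K j x := fun x => IsLocalization.lift_eq _ x
    obtain ⟨w, hw⟩ := exists_hasVal f hL s (Spec.map (CommRingCat.ofHom (algebraMap (Polynomial K) S)) ≫ chart K j ≫ G)
      (over_of_alg f _ hkS j G hG) E'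
    have hcompat : ∀ n r x, Ψ (E' n r x) = E n r (Ψ x) := fun n r => by
      refine derivation_compat p.primeCompl Ψ (E' n r) (E n r) (fun a b => ?_) (fun a b => ?_) ?_
      · simp [Derivation.leibniz]
      · simp [Derivation.leibniz]
      · refine derivation_compat_poly (algebraMap (Polynomial K) S) Ψ (E' n r) (E n r) (fun a => ?_) ?_
        · rw [hE'C, hΨ, hΨ, hu, hu, hEC]
        · rw [hE'X, hΨ, hΨ, hEu]
    have h1 : HasVal f hL s (gF 0) E (Ψ w) := hasVal_map f hL s Ψ
      (fun c => by rw [← hkS, hΨ, jmap_k]) hcompat hw (by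
        rw [← hgF j, ← Category.assoc, ← Spec.map_comp]
        exact congrArg (fun q => Spec.map q ≫ chart K j ≫ G) (CommRingCat.hom_ext (RingHom.ext hΨ)))
    have hinj : Function.Injective Ψ := (injective_iff_map_eq_zero Ψ).mpr fun x hx => by
      obtain ⟨⟨a, y⟩, hay⟩ := IsLocalization.surj p.primeCompl x
      have h2 := congrArg Ψ hay
      rw [map_mul, hx, zero_mul, hΨ] at h2
      have ha : a = 0 := (map_eq_zero_iff _ (jmap_injective K j)).mp h2.symm
      rw [ha, map_zero] at hay
      exact (IsLocalization.map_units S y).mul_left_eq_zero.mp hay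
    refine ⟨w, Ψ, RingHom.ext hΨ, hasVal_unique f hL s h1 hv, hinj, fun β hβ hvec => ?_⟩
    let ev : S →+* K := IsLocalization.lift (M := p.primeCompl) (g := Polynomial.evalRingHom β)
      fun y => (hβ y.1 y.2).isUnit
    have hev : ∀ x, ev (algebraMap (Polynomial K) S x) = Polynomial.eval β x := fun x => IsLocalization.lift_eq _ x
    have hcompat' : ∀ n r x, ev (E' n r x) = D n r (ev x) := fun n r => by
      refine derivation_compat p.primeCompl ev (E' n r) (D n r) (fun a b => ?_) (fun a b => ?_) ?_
      · simp [Derivation.leibniz]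
      · simp [Derivation.leibniz]
      · refine derivation_compat_poly (algebraMap (Polynomial K) S) ev (E' n r) (D n r) (fun a => ?_) ?_
        · rw [hE'C, hev, hev, Polynomial.eval_C, Polynomial.eval_C]
        · rw [hE'X, hev, hev, Polynomial.eval_X, hvec]
    refine ⟨ev, RingHom.ext hev, hasVal_map f hL s ev (fun c => ?_) hcompat' hw ?_⟩
    · rw [← hkS, hev, Polynomial.eval_C]
    · rw [← Category.assoc, ← Spec.map_comp]
      exact congrArg (fun q => Spec.map q ≫ chart K j ≫ G) (CommRingCat.hom_ext (RingHom.ext hev))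
  -- regular on the first chart
  have hpoly : ∃ P, v = algebraMap (Polynomial K) F P := by
    let I : Ideal (Polynomial K) :=
      { carrier := {b | ∃ a, algebraMap (Polynomial K) F b * v = algebraMap (Polynomial K) F a}
        zero_mem' := ⟨0, by simp⟩
        add_mem' := fun ⟨a, ha⟩ ⟨a', ha'⟩ => ⟨a + a', by simp [add_mul, ha, ha']⟩
        smul_mem' := fun c b ⟨a, ha⟩ => ⟨c * a, by simp [mul_assoc, ha]⟩ }
    have hI : I = ⊤ := by
      by_contra hne
      obtain ⟨M, hM, hIM⟩ := I.exists_le_maximal hne
      haveI := hM.isPrime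
      obtain ⟨w, Ψ, hΨ, hw, -, -⟩ := hloc 0 M
      obtain ⟨⟨a, y⟩, hay⟩ := IsLocalization.surj M.primeCompl w
      refine y.2 (hIM ⟨a, ?_⟩)
      have := congrArg Ψ hay
      rw [map_mul, hw] at this
      rw [mul_comm, ← jmap_zero, ← hΨ]
      exact this
    obtain ⟨P, hP⟩ := (hI.symm ▸ Submodule.mem_top : (1 : Polynomial K) ∈ I)
    exact ⟨P, by rw [map_one, one_mul] at hP; exact hP⟩
  obtain ⟨P, hP⟩ := hpoly
  have hXp : (RingHom.ker (Polynomial.evalRingHom (0 : K))).IsPrime := RingHom.ker_isPrime _
  obtain ⟨c, rfl⟩ : ∃ c, P = C c := by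
    obtain ⟨w, Ψ, hΨ, hw, -, -⟩ := hloc 1 (RingHom.ker (Polynomial.evalRingHom (0 : K)))
    obtain ⟨⟨q, r⟩, hqr⟩ := IsLocalization.surj (RingHom.ker (Polynomial.evalRingHom (0 : K))).primeCompl w
    refine eq_C_of_regular_infinity (IsFractionRing.injective (Polynomial K) F) P q r.1 ?_ ?_
    · rw [Polynomial.coeff_zero_eq_eval_zero]
      exact r.2
    · have := congrArg Ψ hqr
      rw [map_mul, hw, hP] at this
      rw [← RingHom.comp_apply, ← RingHom.comp_apply, hΨ] at this
      simp only [jmap, Polynomial.coe_eval₂RingHom] at this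
      rw [show uF K 1 = (tF K)⁻¹ from by simp [uF]] at this
      exact this
  have hfin : ∀ (j : Fin 2) (β : K), (∀ n r, D n r β = Polynomial.eval β (vec l j (D n r α))) →
      HasVal f hL s (Spec.map (CommRingCat.ofHom (Polynomial.evalRingHom β)) ≫ chart K j ≫ G) D c := by
    intro j β hvec
    haveI := RingHom.ker_isPrime (Polynomial.evalRingHom β)
    obtain ⟨w, Ψ, hΨ, hw, hinj, hev⟩ := hloc j (RingHom.ker (Polynomial.evalRingHom β))
    obtain ⟨ev, hev₁, hev₂⟩ := hev β (fun y hy => hy) hvec
    have hwc : w = algebraMap (Polynomial K) _ (C c) := hinj (by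
      rw [hw, hP]; exact ((RingHom.congr_fun hΨ (C c)).trans (hu _ _)).symm)
    rw [hwc, ← RingHom.comp_apply, hev₁, Polynomial.coe_evalRingHom, Polynomial.eval_C] at hev₂
    exact hev₂
  exact ⟨c, hfin l α fun n r => by simp [vec], fun l' hl' => hfin l' 0 fun n r => by simp [vec, hl']⟩

end RFormLib

end
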