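import Groth.Agent.RFormLib.Link
import Groth.Agent.RTrivLib.Link

/-!
# No tensor forms on almost R-trivial varieties
-/

set_option autoImplicit false
set_option linter.style.haveILetI false
set_option linter.unusedSectionVars false
set_option backward.isDefEq.respectTransparency false
set_option backward.isDefEq.respectTransparency.types false
set_option maxHeartbeats 1000000
universe u

open CategoryTheory CategoryTheory.Limits AlgebraicGeometry Opposite TopologicalSpace
open AmpleLib (res res_res)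

noncomputable section

namespace RFormLib

variable {k : Type u} [Field k] {X : Scheme.{u}} (f : X ⟶ Spec (CommRingCat.of k)) [IsProper f] [Smooth f]
  {i m : ℕ} {L : X.Modules} (hL : ExtPow.IsExtPow i (Omega.sheaf f) L)
  (s : Γ(CohB1.tensorPow L m, ⊤)) {K : Type u} [Field K] [Algebra k K]

theorem exists_const_line (G : REq.P1K K ⟶ X) (hG : G ≫ f = REq.P1K.toSpec K ≫ REq.specMap k K)
    (D : Fin m → Fin i → Derivation k K K) :
    ∃ c : K, ∀ a : Spec (CommRingCat.of K) ⟶ REq.P1K K, a ≫ REq.P1K.toSpec K = 𝟙 _ →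
      HasVal f hL s (a ≫ G) D c := by
  obtain ⟨c₀, h₀, h₀'⟩ := exists_const f hL s G hG D 1 0
  refine ⟨c₀, fun a ha => ?_⟩
  obtain ⟨j, α, rfl⟩ := exists_chart_point K a ha
  obtain ⟨d, hd, hd'⟩ := exists_const f hL s G hG D j α
  rw [Category.assoc]
  suffices d = c₀ from this ▸ hd
  fin_cases j
  · exact hasVal_unique f hL s (hd' 1 (by decide)) h₀
  · exact hasVal_unique f hL s (hd' 0 (by decide)) (h₀' 0 (by decide))

theorem hasVal_iff_of_rEquiv (D : Fin m → Fin i → Derivation k K K) {A B : REq.Pts f K}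
    (h : REq.REquiv f K A B) (r : K) : HasVal f hL s A.1 D r ↔ HasVal f hL s B.1 D r := by
  induction h with
  | rel A B h =>
    obtain ⟨U, h, a, b, hh, ha, hb, hA, hB⟩ := h
    obtain ⟨G, hG, hGh⟩ := RTrivLib.exists_extension f h hh ⟨_, (a (IsLocalRing.closedPoint K)).2⟩
    obtain ⟨c, hc⟩ := exists_const_line f hL s G hG D
    have hA' : HasVal f hL s A.1 D c := by
      rw [← hA, ← hGh, ← Category.assoc]
      exact hc _ (by rw [Category.assoc, ha])
    have hB' : HasVal f hL s B.1 D c := by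
      rw [← hB, ← hGh, ← Category.assoc]
      exact hc _ (by rw [Category.assoc, hb])
    exact ⟨fun h => hasVal_unique f hL s h hA' ▸ hB', fun h => hasVal_unique f hL s h hB' ▸ hA'⟩
  | refl A => exact Iff.rfl
  | symm A B _ ih => exact ih.symm
  | trans A B C _ _ ih ih' => exact ih.trans ih'

theorem hasVal_zero_of_rational (hi : 0 < i) {n : ℕ} (s : Γ(CohB1.tensorPow L (n + 1), ⊤))
    (a₀ : REq.Pts f k) (D : Fin (n + 1) → Fin i → Derivation k K K) :
    HasVal f hL s (Spec.map (CommRingCat.ofHom (algebraMap k K)) ≫ a₀.1) D 0 := by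
  obtain ⟨r, hr⟩ := exists_hasVal f hL s a₀.1 a₀.2 (0 : Fin (n + 1) → Fin i → Derivation k k k)
  have h := hasVal_map f hL s (algebraMap k K) (fun c => rfl) (D' := D)
    (fun j r' x => by simp) hr rfl
  obtain ⟨V, hV, φ, hφ, -, rfl⟩ := hr
  rw [ev_eq_zero f hL φ hV hφ hi _ (fun r' x => rfl), map_zero] at h
  exact h

include hL in
/-- An almost R-trivial smooth proper variety has no tensor forms of positive degree. -/
theorem eq_zero_of_almost_rTrivial [IsIntegral X] (hR : REq.IsAlmostRTrivial f) (hi : 0 < i) {n : ℕ}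
    (s : Γ(CohB1.tensorPow L (n + 1), ⊤)) : s = 0 := by
  obtain ⟨U, hU, hR⟩ := hR
  obtain ⟨φk, hφk⟩ := Spec.map_surjective (X.fromSpecStalk (genericPoint X) ≫ f)
  letI : Algebra k X.functionField := φk.hom.toAlgebra
  have hK : X.fromSpecStalk (genericPoint X) ≫ f = Spec.map (CommRingCat.ofHom (algebraMap k X.functionField)) := hφk.symm
  obtain ⟨a₀, ha₀⟩ := (hR k).1
  let A₁ : REq.Pts f X.functionField := ⟨X.fromSpecStalk (genericPoint X), hK⟩
  let A₀ : REq.Pts f X.functionField := ⟨Spec.map (CommRingCat.ofHom (algebraMap k X.functionField)) ≫ a₀.1, by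
    rw [Category.assoc, a₀.2]
    show Spec.map _ ≫ Spec.map (CommRingCat.ofHom (algebraMap k k)) = _
    rw [← Spec.map_comp]; rfl⟩
  have hη : genericPoint X ∈ U :=
    ((genericPoint_spec X).mem_open_set_iff U.2).mpr (by simpa using hU.nonempty)
  have hA₁ : REq.InOpen f U A₁ := by
    rintro _ ⟨z, rfl⟩
    haveI : Subsingleton ↥(Spec (CommRingCat.of X.functionField)) :=
      inferInstanceAs (Subsingleton (PrimeSpectrum X.functionField))
    show X.fromSpecStalk (genericPoint X) z ∈ U
    rw [Subsingleton.elim z (IsLocalRing.closedPoint _), Scheme.fromSpecStalk_closedPoint]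
    exact hη
  have hA₀ : REq.InOpen f U A₀ := by
    rintro _ ⟨z, rfl⟩
    exact ha₀ ⟨Spec.map (CommRingCat.ofHom (algebraMap k X.functionField)) z, rfl⟩
  have hval : ∀ D : Fin (n + 1) → Fin i → Derivation k X.functionField X.functionField, HasVal f hL s A₁.1 D 0 := fun D =>
    (hasVal_iff_of_rEquiv f hL s D ((hR X.functionField).2 A₁ A₀ hA₁ hA₀) 0).mpr
      (hasVal_zero_of_rational f hL hi s a₀ D)
  have hloc : ∀ x : X, ∃ V : X.Opens, x ∈ V ∧ res (CohB1.tensorPow L (n + 1)) (le_top : V ≤ ⊤) s = 0 := by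
    intro x
    obtain ⟨O, a, e, hxO, he⟩ := ProjFormLib.exists_frame (SmDefLib.isFinLocFree_omega f) x
    obtain ⟨V, hV, hxV, hVO⟩ := exists_nice f (L := L) ‹Smooth f› hL hxO
    haveI : Nonempty V := ⟨⟨x, hxV⟩⟩
    have hηV : genericPoint X ∈ V :=
      ((genericPoint_spec X).mem_open_set_iff V.2).mpr ⟨x, trivial, hxV⟩
    have hg : Spec.map (CommRingCat.ofHom (X.germToFunctionField V).hom) ≫ hV.affine.fromSpec =
        X.fromSpecStalk (genericPoint X) := hV.affine.fromSpecStalk_eq_fromSpecStalk hηV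
    have hk := sig_of_over f hV.affine (X.germToFunctionField V).hom _ hg hK
    refine ⟨V, hxV, eq_zero_of_ev f hL hV hk (he.res hVO) (n + 1) _ fun D => ?_⟩
    exact hasVal_unique f hL s ⟨V, hV, _, hk, hg, rfl⟩ (hval D)
  choose V hxV hV using hloc
  refine TopCat.Sheaf.eq_of_locally_eq' (⟨(CohB1.tensorPow L (n + 1)).presheaf, (CohB1.tensorPow L (n + 1)).isSheaf⟩ :
    TopCat.Sheaf AddCommGrpCat _) V ⊤ (fun x => homOfLE le_top) (fun x _ => Opens.mem_iSup.2 ⟨x, hxV x⟩) _ _ fun x => ?_
  exact (hV x).trans (map_zero _).symm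

end RFormLib

end
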