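import Groth.Agent.RFormLib.Eval
import Groth.Agent.RFormLib.Deriv
import Mathlib.AlgebraicGeometry.FunctionField

/-!
# Values of tensor forms at points
-/

set_option autoImplicit false
set_option linter.style.haveILetI false
set_option linter.unusedSectionVars false
set_option backward.isDefEq.respectTransparency false
set_option backward.isDefEq.respectTransparency.types false
set_option maxHeartbeats 1000000
universe u

open CategoryTheory CategoryTheory.Limits AlgebraicGeometry Opposite TopologicalSpace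
open AmpleLib (res res_res shT)
open ProjFormLib (IsFrame)

noncomputable section

namespace RFormLib

variable {k : Type u} [Field k] {X : Scheme.{u}} (f : X ⟶ Spec (CommRingCat.of k)) [QuasiSeparated f]

section Zero

variable {i : ℕ} {L : X.Modules} (hL : ExtPow.IsExtPow i (Omega.sheaf f) L) {R : Type u} [CommRing R]
  [Algebra k R] {V : X.Opens} (φ : Γ(X, V) →+* R)

theorem ev_eq_zero (hV : Nice L V) (hφ : ∀ c, φ (sig f V c) = algebraMap k R c) (hi : 0 < i) {m : ℕ}
    (D : Fin (m + 1) → Fin i → Derivation k R R) (hD : ∀ r x, D (Fin.last m) r x = 0)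
    (z : Γ(CohB1.tensorPow L (m + 1), V)) : ev f hL φ hV hφ (m + 1) D z = 0 := by
  have hell : ∀ r w, ell f φ hV.affine hφ (D (Fin.last m) r) w = 0 := fun r w =>
    (ell_ext f φ hV.affine _ 0 (fun b => by rw [ell_d, hD]; rfl) w).trans rfl
  have hlam : ∀ y, lam f hL φ hV.affine hφ (D (Fin.last m)) y = 0 := by
    intro y
    obtain ⟨z, rfl⟩ := (hL.choose ⟨V, hV.affine⟩).symm.surjective y
    have hz : z ∈ Submodule.span Γ(X, V) (Set.range (exteriorPower.ιMulti Γ(X, V) i
        (M := (Omega.sheaf f).val.obj (op V)))) := by rw [exteriorPower.ιMulti_span]; trivial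
    induction hz using Submodule.span_induction with
    | mem y hy =>
      obtain ⟨e, rfl⟩ := hy
      rw [lam_ι]
      exact Matrix.det_eq_zero_of_row_eq_zero ⟨0, hi⟩ fun r => hell r _
    | zero => simp only [map_zero]
    | add y z _ _ hy hz => simp only [map_add, hy, hz, add_zero]
    | smul a y _ hy => rw [map_smul, LinearMap.map_smulₛₗ, hy, smul_zero]
  obtain ⟨t, rfl⟩ := (WedgeLib.lift_shT_bijective (hV.frames m).choose_spec.choose_spec
    hV.frame.choose_spec.choose_spec (le_rfl : V ≤ V)).2 z
  induction t with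
  | zero => simp only [map_zero]
  | tmul x y =>
    show ev f hL φ hV hφ (m + 1) D (shT x y) = 0
    rw [ev_shT, hlam, mul_zero]
  | add s t hs ht =>
    rw [map_add]
    exact (map_add (ev f hL φ hV hφ (m + 1) D) _ _).trans (by rw [hs, ht, add_zero])

end Zero

theorem spec_res {V W : X.Opens} (hV : IsAffineOpen V) (hW : IsAffineOpen W) (h : W ≤ V) :
    Spec.map (X.presheaf.map (homOfLE h).op) ≫ hV.fromSpec = hW.fromSpec := by
  have := hV.SpecMap_appLE_fromSpec (𝟙 X) hW (by simpa using h)
  rw [Category.comp_id] at this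
  simpa [Scheme.Hom.appLE] using this

theorem sig_of_over {R : Type u} [CommRing R] [Algebra k R] {V : X.Opens} (hV : IsAffineOpen V)
    (φ : Γ(X, V) →+* R) (g : Spec (CommRingCat.of R) ⟶ X)
    (hg : Spec.map (CommRingCat.ofHom φ) ≫ hV.fromSpec = g)
    (hgf : g ≫ f = Spec.map (CommRingCat.ofHom (algebraMap k R))) (c : k) :
    φ (sig f V c) = algebraMap k R c := by
  rw [← hg, Category.assoc, ← (isAffineOpen_top _).SpecMap_appLE_fromSpec f hV (le_top : V ≤ f ⁻¹ᵁ ⊤),
    IsAffineOpen.fromSpec_top, Scheme.isoSpec_Spec_inv, ← Spec.map_comp, ← Spec.map_comp] at hgf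
  exact ConcreteCategory.congr_hom (Spec.map_injective hgf) c

theorem exists_phi {R : Type u} [CommRing R] [IsLocalRing R] {V : X.Opens} (hV : IsAffineOpen V)
    (g : Spec (CommRingCat.of R) ⟶ X) (hg : g (IsLocalRing.closedPoint R) ∈ V) :
    ∃ φ : Γ(X, V) →+* R, Spec.map (CommRingCat.ofHom φ) ≫ hV.fromSpec = g := by
  have hr : Set.range g ⊆ Set.range hV.fromSpec := by
    rintro _ ⟨z, rfl⟩
    rw [hV.range_fromSpec]
    exact ((IsLocalRing.specializes_closedPoint z).map g.continuous).mem_open V.2 hg
  obtain ⟨φ, hφ⟩ := Spec.map_surjective (IsOpenImmersion.lift hV.fromSpec g hr)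
  exact ⟨φ.hom, by
    rw [show CommRingCat.ofHom φ.hom = φ from rfl, hφ, IsOpenImmersion.lift_fac]⟩

theorem phi_ext {R : Type u} [CommRing R] {V : X.Opens} (hV : IsAffineOpen V) (φ φ' : Γ(X, V) →+* R)
    (h : Spec.map (CommRingCat.ofHom φ) ≫ hV.fromSpec = Spec.map (CommRingCat.ofHom φ') ≫ hV.fromSpec) :
    φ = φ' := by
  rw [cancel_mono] at h
  exact congrArg CommRingCat.Hom.hom (Spec.map_injective h)

variable {i m : ℕ} {L : X.Modules} (hL : ExtPow.IsExtPow i (Omega.sheaf f) L)
  (s : Γ(CohB1.tensorPow L m, ⊤))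

/-- The value of `s` at a point on a family of derivations. -/
def HasVal {R : Type u} [CommRing R] [Algebra k R] (g : Spec (CommRingCat.of R) ⟶ X)
    (D : Fin m → Fin i → Derivation k R R) (r : R) : Prop :=
  ∃ (V : X.Opens) (hV : Nice L V) (φ : Γ(X, V) →+* R) (hφ : ∀ c, φ (sig f V c) = algebraMap k R c),
    Spec.map (CommRingCat.ofHom φ) ≫ hV.affine.fromSpec = g ∧
      r = ev f hL φ hV hφ m D (res (CohB1.tensorPow L m) le_top s)

theorem exists_hasVal [Smooth f] {R : Type u} [CommRing R] [IsLocalRing R] [Algebra k R]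
    (g : Spec (CommRingCat.of R) ⟶ X) (hgf : g ≫ f = Spec.map (CommRingCat.ofHom (algebraMap k R)))
    (D : Fin m → Fin i → Derivation k R R) : ∃ r, HasVal f hL s g D r := by
  obtain ⟨V, hV, hgV, -⟩ := exists_nice f (L := L) ‹Smooth f› hL (W := ⊤) (x := g (IsLocalRing.closedPoint R)) trivial
  obtain ⟨φ, hφ⟩ := exists_phi hV.affine g hgV
  exact ⟨_, V, hV, φ, sig_of_over f hV.affine φ g hφ hgf, hφ, rfl⟩

theorem hasVal_map {R R' : Type u} [CommRing R] [Algebra k R] [CommRing R'] [Algebra k R'] (ψ : R →+* R')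
    (hψ : ∀ c, ψ (algebraMap k R c) = algebraMap k R' c) {g : Spec (CommRingCat.of R) ⟶ X}
    {D : Fin m → Fin i → Derivation k R R} {D' : Fin m → Fin i → Derivation k R' R'}
    (hD : ∀ j r x, ψ (D j r x) = D' j r (ψ x)) {r : R} (h : HasVal f hL s g D r)
    {g' : Spec (CommRingCat.of R') ⟶ X} (hg : Spec.map (CommRingCat.ofHom ψ) ≫ g = g') :
    HasVal f hL s g' D' (ψ r) := by
  obtain ⟨V, hV, φ, hφ, hgφ, rfl⟩ := h
  refine ⟨V, hV, ψ.comp φ, fun c => by rw [RingHom.comp_apply, hφ, hψ], ?_, ?_⟩
  · rw [← hg, ← hgφ, ← Category.assoc, ← Spec.map_comp]; rfl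
  · refine (ev_comp f hL φ (le_refl V) (ψ.comp φ) ψ (fun a => ?_) hV hV hφ (fun c => by rw [RingHom.comp_apply, hφ, hψ]) m D D' hD _).trans ?_
    · exact congrArg (ψ.comp φ) (AmpleLib.res_refl (Coh.structureModule X) a)
    · rw [res_res]

theorem hasVal_unique [Smooth f] {R : Type u} [CommRing R] [IsLocalRing R] [Algebra k R]
    {g : Spec (CommRingCat.of R) ⟶ X} {D : Fin m → Fin i → Derivation k R R} {r r' : R}
    (h : HasVal f hL s g D r) (h' : HasVal f hL s g D r') : r = r' := by
  obtain ⟨V, hV, φ, hφ, hgφ, rfl⟩ := h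
  obtain ⟨V', hV', φ', hφ', hgφ', rfl⟩ := h'
  have hmem : ∀ {U : X.Opens} (hU : IsAffineOpen U) (χ : Γ(X, U) →+* R),
      (Spec.map (CommRingCat.ofHom χ) ≫ hU.fromSpec) (IsLocalRing.closedPoint R) ∈ U := fun {U} hU χ => by
    have h1 : hU.fromSpec (Spec.map (CommRingCat.ofHom χ) (IsLocalRing.closedPoint R)) ∈ Set.range hU.fromSpec := ⟨_, rfl⟩
    rw [hU.range_fromSpec] at h1
    exact h1
  obtain ⟨W, hW, hgW, hWle⟩ := exists_nice f (L := L) ‹Smooth f› hL (W := V ⊓ V')
    (x := g (IsLocalRing.closedPoint R)) ⟨hgφ ▸ hmem _ φ, hgφ' ▸ hmem _ φ'⟩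
  obtain ⟨φW, hφW⟩ := exists_phi hW.affine g hgW
  have key : ∀ (U : X.Opens) (hU : Nice L U) (hle : W ≤ U) (χ : Γ(X, U) →+* R) (hχ : ∀ c, χ (sig f U c) = algebraMap k R c)
      (_ : Spec.map (CommRingCat.ofHom χ) ≫ hU.affine.fromSpec = g) (hc : ∀ c, φW (sig f W c) = algebraMap k R c),
      ev f hL χ hU hχ m D (res (CohB1.tensorPow L m) le_top s) =
        ev f hL φW hW hc m D (res (CohB1.tensorPow L m) le_top s) := by
    intro U hU hle χ hχ hgχ hc
    have e : φW.comp (X.presheaf.map (homOfLE hle).op).hom = χ := phi_ext hU.affine _ _ (by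
      rw [show CommRingCat.ofHom (φW.comp (X.presheaf.map (homOfLE hle).op).hom) =
          X.presheaf.map (homOfLE hle).op ≫ CommRingCat.ofHom φW from rfl,
        Spec.map_comp, Category.assoc, spec_res hU.affine hW.affine hle, hφW, hgχ])
    have := ev_comp f hL χ hle φW (RingHom.id R) (fun a => RingHom.congr_fun e a) hU hW hχ hc m D D
      (fun _ _ _ => rfl) (res (CohB1.tensorPow L m) le_top s)
    rw [res_res] at this
    exact this
  have hc := sig_of_over f hW.affine φW g hφW (by
    rw [← hgφ, Category.assoc, ← (isAffineOpen_top _).SpecMap_appLE_fromSpec f hV.affine (le_top : V ≤ f ⁻¹ᵁ ⊤),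
      IsAffineOpen.fromSpec_top, Scheme.isoSpec_Spec_inv, ← Spec.map_comp, ← Spec.map_comp]
    congr 1
    exact CommRingCat.hom_ext (RingHom.ext hφ))
  rw [key V hV (hWle.trans inf_le_left) φ hφ hgφ hc, key V' hV' (hWle.trans inf_le_right) φ' hφ' hgφ' hc]

section Detect

variable [IsIntegral X] [Algebra k X.functionField]

theorem exists_coord_derivation {V : X.Opens} [Nonempty V] (hV : IsAffineOpen V)
    (hk : ∀ c, X.germToFunctionField V (sig f V c) = algebraMap k X.functionField c)
    (q : Γ(Omega.sheaf f, V) →+ X.functionField)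
    (hq : ∀ a w, q (a • w) = X.germToFunctionField V a * q w) :
    ∃ D : Derivation k X.functionField X.functionField,
      ∀ b, D (X.germToFunctionField V b) = q (OmegaSh.dSect f V b) := by
  haveI := functionField_isFractionRing_of_isAffineOpen X V hV
  have halg : ∀ b, algebraMap Γ(X, V) X.functionField b = X.germToFunctionField V b := fun b => rfl
  let ψ : Γ(X, V) →+* TrivSqZeroExt X.functionField X.functionField :=
    { toFun := fun b => ⟨X.germToFunctionField V b, q (OmegaSh.dSect f V b)⟩
      map_one' := TrivSqZeroExt.ext (map_one _) (by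
        have h := OmegaAffLib.der_mul (OmegaSh.dOmega f) V (1 : Γ(X, V)) 1
        change OmegaSh.dSect f V ((1 : Γ(X, V)) * 1) = _ at h
        rw [mul_one, one_smul] at h
        show q _ = 0
        exact (congrArg q (add_eq_left.mp h.symm)).trans (map_zero q))
      map_zero' := TrivSqZeroExt.ext (map_zero _) (by
        have h := OmegaSh.dSect_add f V 0 0
        rw [add_zero] at h
        show q _ = 0
        exact (congrArg q (add_eq_left.mp h.symm)).trans (map_zero q))
      map_add' := fun a b => TrivSqZeroExt.ext (map_add _ a b) (by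
        show q (OmegaSh.dSect f V (a + b)) = q _ + q _
        rw [OmegaSh.dSect_add, map_add])
      map_mul' := fun a b => TrivSqZeroExt.ext (map_mul _ a b) (by
        show q (OmegaSh.dSect f V (a * b)) = _
        rw [OmegaSh.dSect_mul, map_add, hq, hq, TrivSqZeroExt.snd_mul]
        simp [TrivSqZeroExt.fst, TrivSqZeroExt.snd, smul_eq_mul, mul_comm]) }
  obtain ⟨D, hD⟩ := exists_derivation_of_lift (nonZeroDivisors Γ(X, V)) ψ (fun a => rfl) (sig f V)
    (fun c => (halg _).trans (hk c)) (fun c => by
      show q (OmegaSh.dSect f V (sig f V c)) = 0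
      have h := OmegaAffLib.der_appLE (OmegaSh.dOmega f) ⊤ V le_top ((Scheme.ΓSpecIso (CommRingCat.of k)).inv c)
      exact (congrArg q h).trans (map_zero q))
  exact ⟨D, fun b => hD b⟩

theorem eq_zero_of_ev {V : X.Opens} [Nonempty V] (hV : Nice L V)
    (hk : ∀ c, (X.germToFunctionField V).hom (sig f V c) = algebraMap k X.functionField c)
    {a : ℕ} {e : Fin a → Γ(Omega.sheaf f, V)} (he : IsFrame (Omega.sheaf f) e) :
    ∀ (n : ℕ) (z : Γ(CohB1.tensorPow L n, V)),
      (∀ D : Fin n → Fin i → Derivation k X.functionField X.functionField,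
        ev f hL (X.germToFunctionField V).hom hV hk n D z = 0) → z = 0 := by
  classical
  intro n
  induction n with
  | zero =>
    intro z hz
    exact germ_injective_of_isIntegral X (genericPoint X) _ ((hz (fun j => j.elim0)).trans (map_zero _).symm)
  | succ n ih =>
    intro z hz
    set φ := (X.germToFunctionField V).hom
    let b := WedgeLib.frameBasis he (le_rfl : V ≤ V)
    have hD : ∀ j : Fin a, ∃ D : Derivation k X.functionField X.functionField,
        ∀ x, D (φ x) = φ (b.coord j (OmegaSh.dSect f V x)) := fun j => by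
      obtain ⟨D, hD⟩ := exists_coord_derivation f hV.affine hk (φ.toAddMonoidHom.comp (b.coord j).toAddMonoidHom)
        (fun c w => by
          show φ (b.coord j (c • w)) = φ c * φ (b.coord j w)
          rw [map_smul, smul_eq_mul, map_mul])
      exact ⟨D, hD⟩
    choose Db hDb using hD
    have hell : ∀ j w, ell f φ hV.affine hk (Db j) w = φ (b.coord j w) := fun j w =>
      ell_ext f φ hV.affine (ell f φ hV.affine hk (Db j))
        { toFun := fun w => φ (b.coord j w), map_add' := fun x y => by simp,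
          map_smul' := fun c x => by simp [map_smul, smul_eq_mul] }
        (fun x => (ell_d f φ hV.affine hk (Db j) x).trans (hDb j x)) w
    let Φ := hL.choose ⟨V, hV.affine⟩
    let c : Module.Basis _ Γ(X, V) Γ(L, V) := ((b.exteriorPower i).map Φ.symm)
    let T := LinearEquiv.ofBijective _ (WedgeLib.lift_shT_bijective (hV.frames n).choose_spec.choose_spec
      hV.frame.choose_spec.choose_spec (le_rfl : V ≤ V))
    obtain ⟨t, rfl⟩ := T.surjective z
    obtain ⟨y, rfl⟩ := TensorProduct.eq_repr_basis_right (c) t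
    have hy : ∀ S, y S = 0 := by
      intro S
      refine ih (y S) fun D => ?_
      let J : Fin i → Fin a := Set.powersetCard.ofFinEmbEquiv.symm S
      have h := hz (Fin.snoc D fun r => Db (J r))
      have hlam : ∀ S', lam f hL φ hV.affine hk (fun r => Db (J r)) (c S') = if S' = S then 1 else 0 := by
        intro S'
        rw [show c S' = Φ.symm (exteriorPower.ιMulti_family Γ(X, V) i b S') by
          rw [Module.Basis.map_apply, exteriorPower.basis_apply]; rfl]
        rw [exteriorPower.ιMulti_family, lam_ι]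
        split_ifs with hS
        · subst hS
          rw [show (Matrix.of fun l r => ell f φ hV.affine hk (Db (J r))
              ((b ∘ Set.powersetCard.ofFinEmbEquiv.symm S') l)) = 1 from ?_, Matrix.det_one]
          ext l r
          rw [Matrix.of_apply, hell, Function.comp_apply, Module.Basis.coord_apply, Module.Basis.repr_self,
            Finsupp.single_apply, Matrix.one_apply]
          have hinj : Function.Injective J := (Set.powersetCard.ofFinEmbEquiv.symm S').injective
          rcases eq_or_ne l r with rfl | hlr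
          · rw [if_pos rfl, if_pos rfl, map_one]
          · rw [if_neg (fun h => hlr (hinj h)), if_neg hlr, map_zero]
        · obtain ⟨x, hx', hx⟩ : ∃ x, x ∈ (S' : Finset (Fin a)) ∧ x ∉ (S : Finset (Fin a)) := by
            by_contra! hne
            exact hS (Subtype.ext (Finset.eq_of_subset_of_card_le hne (by rw [S.2, S'.2])))
          obtain ⟨l, hl⟩ : x ∈ Set.range (Set.powersetCard.ofFinEmbEquiv.symm S') := by
            rw [Set.powersetCard.mem_range_ofFinEmbEquiv_symm_iff_mem]; exact hx'
          refine Matrix.det_eq_zero_of_row_eq_zero l fun r => ?_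
          rw [Matrix.of_apply, hell, Function.comp_apply, hl, Module.Basis.coord_apply, Module.Basis.repr_self,
            Finsupp.single_eq_of_ne, map_zero]
          intro h
          refine hx ?_
          rw [← h]
          exact (Set.powersetCard.mem_range_ofFinEmbEquiv_symm_iff_mem _ _).mp ⟨r, rfl⟩
      have hT : ∀ x y, T (x ⊗ₜ y) = shT x y := fun x y => rfl
      rw [Finsupp.sum, map_sum] at h
      refine (Eq.trans ?_ h)
      rw [show ev f hL φ hV hk (n + 1) (Fin.snoc D fun r => Db (J r)) (∑ S' ∈ y.support, T (y S' ⊗ₜ c S')) =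
        ∑ S' ∈ y.support, ev f hL φ hV hk (n + 1) (Fin.snoc D fun r => Db (J r)) (T (y S' ⊗ₜ c S')) from map_sum _ _ _]
      refine Eq.symm ((Finset.sum_eq_single S (fun S' _ hne => ?_) (fun hS => ?_)).trans ?_)
      · rw [hT, ev_shT, Fin.snoc_last, hlam, if_neg hne, mul_zero]
      · rw [Finsupp.notMem_support_iff.mp hS, TensorProduct.zero_tmul, map_zero, map_zero]
      · rw [hT, ev_shT, Fin.snoc_last, hlam, if_pos rfl, mul_one, Fin.init_snoc]
    rw [show y = 0 from Finsupp.ext hy, Finsupp.sum_zero_index, map_zero]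

end Detect

end RFormLib

end
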